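import Cfsg.Agent.H117.Rd.Theta

/-!
# S3691, F-D+2 (helper117): `p`-elements commuting with an element of prime order

`comm_trivial` : `V` a nondegenerate quadratic space of dimension `2 k`, `k` odd, `w` a fixed point free isometry of prime order `l`,
`ord_l(q) = k`; an isometry `g` of `p`-power order commuting with `w` is trivial.
-/

set_option autoImplicit false
set_option linter.unusedSectionVars false

namespace Cfsg.Agent.H117.Rd

open Module QuadraticMap Cfsg.Agent.LieClassical.OrthCore Cfsg.Agent.LieClassical.OrthTrans Cfsg.Agent.H955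
open Cfsg.Agent.H997.Rg (nc card_nc semiconj_aeval)

section

variable {F V K : Type*} [Field F] [AddCommGroup V] [Module F V] [Group K] {ρ : K →* (V ≃ₗ[F] V)} {Q : QuadraticForm F V}

theorem polar_aeval (hi : ∀ g v, Q (ρ g v) = Q v) (w : K) (P : Polynomial F) (a b : V) :
    polar Q (Polynomial.aeval (en ρ w⁻¹) P a) b = polar Q a (Polynomial.aeval (en ρ w) P b) := by
  have hpow : ∀ (n : ℕ) (a b : V), polar Q ((en ρ w⁻¹ ^ n) a) b = polar Q a ((en ρ w ^ n) b) := by
    intro n a b
    rw [← en_pow, ← en_pow, en_apply, en_apply, polar_rho_left hi]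
    congr 2
    rw [← inv_pow, inv_inv]
  induction P using Polynomial.induction_on' with
  | add p q hp hq =>
    rw [map_add, map_add, LinearMap.add_apply, LinearMap.add_apply, polar_add_left, polar_add_right, hp, hq]
  | monomial n c =>
    rw [Polynomial.aeval_monomial, Polynomial.aeval_monomial, Module.End.mul_apply, Module.End.mul_apply,
      Module.algebraMap_end_apply, Module.algebraMap_end_apply, polar_smul_left, polar_smul_right, hpow]

theorem coe_aeval_resRep {N : Subgroup K} {U : Submodule F V} {hU : ∀ g ∈ N, ∀ u ∈ U, ρ g u ∈ U} (g : N) (P : Polynomial F)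
    (u : U) : ((Polynomial.aeval (en (resRep ρ N U hU) g) P u : U) : V) = Polynomial.aeval (en ρ (g : K)) P (u : V) := by
  have hpow : ∀ (n : ℕ) (u : U), (((en (resRep ρ N U hU) g ^ n) u : U) : V) = (en ρ (g : K) ^ n) (u : V) := by
    intro n u
    rw [← en_pow, ← en_pow, en_apply, en_apply, coe_resRep, Subgroup.coe_pow]
  induction P using Polynomial.induction_on' with
  | add p q hp hq =>
    rw [map_add, map_add, LinearMap.add_apply, LinearMap.add_apply, Submodule.coe_add, hp, hq]
  | monomial n c =>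
    rw [Polynomial.aeval_monomial, Polynomial.aeval_monomial, Module.End.mul_apply, Module.End.mul_apply,
      Module.algebraMap_end_apply, Module.algebraMap_end_apply, Submodule.coe_smul, hpow]

end

section

variable {F V K : Type*} [Field F] [Fintype F] [AddCommGroup V] [Module F V] [FiniteDimensional F V] [Group K] [Finite K]
  {ρ : K →* (V ≃ₗ[F] V)} {Q : QuadraticForm F V} {p f k l : ℕ}

/-- **`p`-elements commuting with `w` are trivial** -/
theorem comm_trivial (hp : p.Prime) (hF : Fintype.card F = p ^ f) (hf : 0 < f) (hl : l.Prime) (hl2 : l ≠ 2)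
    (ho : orderOf (p : ZMod l) = f * k) (hk : Odd k) (hd : finrank F V = 2 * k) (hQ : Nondeg Q)
    (hi : ∀ g v, Q (ρ g v) = Q v) {w : K} (hw : orderOf w = l) (hfp : ∀ v, ρ w v = v → v = 0)
    {g : K} (hgw : g * w = w * g) (hg : ∃ j, g ^ p ^ j = 1) (v : V) : ρ g v = v := by
  have hk0 : 0 < k := hk.pos
  have hlF := Fact.mk hl
  -- groups
  have hA : IsPGroup l (Subgroup.zpowers w) := by
    rw [IsPGroup.iff_card]
    exact ⟨1, by rw [Nat.card_zpowers, hw, pow_one]⟩
  have hG : IsPGroup p (Subgroup.zpowers g) := by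
    obtain ⟨j, hj⟩ := hg
    intro x
    obtain ⟨n, hn⟩ := Subgroup.mem_zpowers_iff.1 x.2
    refine ⟨j, Subtype.ext ?_⟩
    rw [Subgroup.coe_pow, ← hn, Subgroup.coe_one, ← zpow_natCast, ← zpow_mul, mul_comm, zpow_mul, zpow_natCast, hj, one_zpow]
  have hcw : ∀ a ∈ Subgroup.zpowers w, ∀ b ∈ Subgroup.zpowers g, a * b = b * a := by
    intro a ha b hb
    obtain ⟨i, rfl⟩ := Subgroup.mem_zpowers_iff.1 ha
    obtain ⟨j, rfl⟩ := Subgroup.mem_zpowers_iff.1 hb
    exact (Commute.zpow_zpow (show Commute w g from hgw.symm) i j).eq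
  have hfw : Fx ρ (Subgroup.zpowers w) = ⊥ := by
    rw [eq_bot_iff]
    intro x hx
    rw [mem_Fx_zpowers] at hx
    rw [Submodule.mem_bot]
    exact hfp x hx
  -- dimensions of `w`-invariant submodules
  have hdim : ∀ U : Submodule F V, (∀ a ∈ Subgroup.zpowers w, ∀ u ∈ U, ρ a u ∈ U) → k ∣ finrank F U := by
    intro U hU
    have h1 := dim_dvd hF hf hl ho hk0 hA hU
    rwa [hfw, inf_bot_eq, finrank_bot, Nat.sub_zero] at h1
  set U := Fx ρ (Subgroup.zpowers g) with hUdef
  have hUw : ∀ a ∈ Subgroup.zpowers w, ∀ u ∈ U, ρ a u ∈ U := fun a ha u hu =>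
    Fx_inv_comm (fun b hb => hcw a ha b hb) hu
  have hV0 : (⊤ : Submodule F V) ≠ ⊥ := by
    intro h
    have h1 : finrank F (⊤ : Submodule F V) = 0 := by rw [h, finrank_bot]
    rw [finrank_top, hd] at h1
    omega
  have hU0 : U ≠ ⊥ := by
    have h1 := exists_fix (ρ := ρ) hp hF hf hG (U := ⊤) (fun _ _ _ _ => trivial) hV0
    rwa [top_inf_eq] at h1
  have hUpos : 0 < finrank F U := by
    rw [Module.finrank_pos_iff]
    exact Submodule.nontrivial_iff_ne_bot.2 hU0
  have hUle : finrank F U ≤ 2 * k := by rw [← hd]; exact Submodule.finrank_le U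
  have hUk : finrank F U = k ∨ finrank F U = 2 * k := by
    obtain ⟨c, hc⟩ := hdim U hUw
    rw [hc] at hUpos hUle ⊢
    have h1 : c ≠ 0 := by rintro rfl; simp at hUpos
    have h2 : c ≤ 2 := by
      by_contra hcon
      have : k * 3 ≤ k * c := Nat.mul_le_mul_left k (by omega)
      omega
    have h3 : c = 1 ∨ c = 2 := by omega
    rcases h3 with rfl | rfl
    · left; rw [mul_one]
    · right; rw [mul_comm]
  rcases hUk with hUk | hUk
  swap
  · have h1 : U = ⊤ := Submodule.eq_top_of_finrank_eq (by rw [hUk, hd])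
    have h2 : v ∈ U := by rw [h1]; trivial
    exact h2 g (Subgroup.mem_zpowers g)
  exfalso
  -- the perpendicular space
  have hPk : finrank F (perp Q U) = k := by
    have := finrank_add_perp hQ U
    omega
  have hPg : ∀ a ∈ Subgroup.zpowers g, ∀ u ∈ perp Q U, ρ a u ∈ perp Q U := by
    intro a ha u hu
    refine perp_rho hi (fun x hx => ?_) hu
    rw [hx a⁻¹ (inv_mem ha)]
    exact hx
  have hPw : ∀ a ∈ Subgroup.zpowers w, ∀ u ∈ perp Q U, ρ a u ∈ perp Q U := by
    intro a ha u hu
    exact perp_rho hi (fun x hx => hUw a⁻¹ (inv_mem ha) x hx) hu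
  have hrad : U ⊓ perp Q U = U := by
    have h1 : perp Q U ≠ ⊥ := by
      intro h
      rw [h, finrank_bot] at hPk
      omega
    have h2 := exists_fix hp hF hf hG hPg h1
    rw [inf_comm] at h2
    have h3 := hdim (U ⊓ perp Q U) (fun a ha u hu => ⟨hUw a ha u hu.1, hPw a ha u hu.2⟩)
    have h4 : 0 < finrank F (U ⊓ perp Q U : Submodule F V) := by
      rw [Module.finrank_pos_iff]
      exact Submodule.nontrivial_iff_ne_bot.2 h2
    have h5 := Nat.le_of_dvd h4 h3
    exact Submodule.eq_of_le_of_finrank_le inf_le_left (by rw [hUk]; exact h5)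
  have hUP : U = perp Q U := by
    have h1 : U ≤ perp Q U := inf_eq_left.1 hrad
    exact Submodule.eq_of_le_of_finrank_eq h1 (by rw [hUk, hPk])
  -- `(g - 1) V = U`
  have hsub : ∀ a ∈ Subgroup.zpowers g, ∀ x : V, ρ a x - x ∈ U := by
    intro a ha x
    rw [hUP, mem_perp']
    intro u hu
    rw [polar_sub_left]
    have h1 := polar_rho hi a x u
    rw [hu a ha] at h1
    rw [h1, sub_self]
  have hrange : LinearMap.range (en ρ g - 1) = U := by
    have h1 : LinearMap.range (en ρ g - 1) ≤ U := by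
      rintro _ ⟨x, rfl⟩
      exact hsub g (Subgroup.mem_zpowers g) x
    have h2 : LinearMap.ker (en ρ g - 1) = U := by
      ext x
      rw [LinearMap.mem_ker, LinearMap.sub_apply, sub_eq_zero, hUdef, mem_Fx_zpowers]
      rfl
    have h3 := LinearMap.finrank_range_add_finrank_ker (en ρ g - 1)
    rw [h2, hd, hUk] at h3
    exact Submodule.eq_of_le_of_finrank_eq h1 (by rw [hUk]; omega)
  -- the exponents of `w` on `U`
  set ρ' := resRep ρ (Subgroup.zpowers w) U hUw with hρ'
  set w' : Subgroup.zpowers w := ⟨w, Subgroup.mem_zpowers w⟩ with hw'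
  have hy : (en ρ' w') ^ l = 1 := by
    rw [← en_pow, show w' ^ l = 1 from Subtype.ext (by rw [Subgroup.coe_pow, ← hw, pow_orderOf_eq_one]; rfl), en_one]
  have hnt : Nontrivial U := Submodule.nontrivial_iff_ne_bot.2 hU0
  have hfp' : ∀ u : U, en ρ' w' u = u → u = 0 := by
    intro u hu
    exact Subtype.ext (hfp u (congrArg Subtype.val hu))
  have h1 := card_Theta_le (y := en ρ' w') (hl := hl) (hy := hy) hfp'
  have h2 := dvd_card_Theta (y := en ρ' w') (hl := hl) (hy := hy) hF hf ho hk0
  rw [hUk] at h1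
  have h3 : Nat.card (Theta (en ρ' w') hl hy) = k :=
    le_antisymm h1 (Nat.le_of_dvd Nat.card_pos h2)
  -- `-1`
  set P := minpoly F (en ρ' w') with hP
  have hPU : ∀ u ∈ U, Polynomial.aeval (en ρ w) P u = 0 := by
    intro u hu
    have h4 : Polynomial.aeval (en ρ' w') P = 0 := minpoly.aeval _ _
    have h5 := coe_aeval_resRep w' P (⟨u, hu⟩ : U) (ρ := ρ) (hU := hUw)
    rw [← hρ', h4] at h5
    exact h5.symm
  have hPinv : ∀ u ∈ U, Polynomial.aeval (en ρ w⁻¹) P u = 0 := by
    intro u hu
    obtain ⟨x, rfl⟩ : ∃ x, (en ρ g - 1) x = u := by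
      rw [← hrange] at hu
      exact hu
    apply hQ
    intro b
    rw [polar_aeval hi]
    have h4 : polar Q ((en ρ g - 1) x) (Polynomial.aeval (en ρ w) P b) =
        polar Q x (ρ g⁻¹ (Polynomial.aeval (en ρ w) P b) - Polynomial.aeval (en ρ w) P b) := by
      rw [LinearMap.sub_apply, polar_sub_left, polar_sub_right, en_apply, polar_rho_left hi]
      rfl
    have h5 : ρ g⁻¹ (Polynomial.aeval (en ρ w) P b) = Polynomial.aeval (en ρ w) P (ρ g⁻¹ b) := by
      have h6 : en ρ g⁻¹ * en ρ w = en ρ w * en ρ g⁻¹ := by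
        rw [← en_mul, ← en_mul]
        congr 1
        exact ((show Commute g w from hgw).inv_left).eq
      exact LinearMap.congr_fun (semiconj_aeval h6 P) b
    rw [h4, h5, ← map_sub, hPU _ (hsub g⁻¹ (inv_mem (Subgroup.mem_zpowers g)) b), polar_zero_right]
  have hneg : (-1 : (ZMod l)ˣ) ∈ Theta (en ρ' w') hl hy := by
    rw [mem_Theta (n := l - 1) (by
      rw [Nat.cast_sub hl.one_lt.le, ZMod.natCast_self, zero_sub, Nat.cast_one, Units.val_neg, Units.val_one])]
    have h4 : (en ρ' w') ^ (l - 1) = en ρ' w'⁻¹ := by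
      rw [← en_pow]
      congr 1
      rw [eq_inv_iff_mul_eq_one, ← pow_succ, Nat.sub_add_cancel hl.one_lt.le]
      exact Subtype.ext (by rw [Subgroup.coe_pow, ← hw, pow_orderOf_eq_one]; rfl)
    rw [h4]
    ext u
    have h5 := coe_aeval_resRep w'⁻¹ P u (ρ := ρ) (hU := hUw)
    rw [← hρ'] at h5
    rw [h5]
    exact hPinv u u.2
  have h4 := Subgroup.orderOf_dvd_natCard _ hneg
  rw [h3] at h4
  -- the order of `-1` is two
  have h5 : orderOf (-1 : (ZMod l)ˣ) = 2 := by
    rw [orderOf_eq_prime_iff]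
    refine ⟨by rw [neg_one_sq], fun h => ?_⟩
    have h6 : (-1 : ZMod l) = 1 := by
      have := congrArg (fun u : (ZMod l)ˣ => (u : ZMod l)) h
      simpa using this
    have h7 : (2 : ZMod l) = 0 := by
      have : (1 : ZMod l) + 1 = 0 := by nth_rewrite 1 [← h6]; ring
      rw [← this]; norm_num
    have h8 : ((2 : ℕ) : ZMod l) = 0 := by exact_mod_cast h7
    rw [ZMod.natCast_eq_zero_iff] at h8
    exact hl2 ((Nat.prime_dvd_prime_iff_eq hl Nat.prime_two).1 h8)
  rw [h5] at h4
  exact (Nat.not_even_iff_odd.2 hk) (even_iff_two_dvd.2 h4)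

end

end Cfsg.Agent.H117.Rd
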