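import Cfsg.Agent.H964.Rg.Res

/-!
# S3691, residual case F-D+2 (helper117): definitions

`T ≃* PΩ⁺_{2m}(q)`, `q = p ^ f`, `m ≥ 5`, `X` fixes an anisotropic plane `P` and contains `Ω(P^⊥)` (`ResP`), `K = preG eT Y`.

* `Fr p f m` : the numbers (the excluded small cases have `|T| < 3 · 29!`)
* `NN q m = q^(2m-2) (q^m - 1) (q^(m-1) - 1)` : the number of the pairs of vectors isometric to a basis of `P`
* `l1 p f` : the loss `f (2m-2) - v_p |K| ≤ l1`; `l2` : `v_p |K / M| ≤ l2`
* `Sit` : the abstract situation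
-/

set_option autoImplicit false

namespace Cfsg.Agent.H117.Rd

open Module QuadraticMap Cfsg.Agent.LieClassical.OrthCore

/-- the numbers -/
structure Fr (p f m : ℕ) : Prop where
  prime : p.Prime
  f1 : 1 ≤ f
  five : 5 ≤ m
  two : p = 2 → f = 1 → 8 ≤ m
  four : p = 2 → f = 2 → 6 ≤ m
  three : p = 3 → f = 1 → 6 ≤ m

/-- the number of the pairs isometric to a basis of an anisotropic plane -/
def NN (q m : ℕ) : ℕ := q ^ (2 * m - 2) * (q ^ m - 1) * (q ^ (m - 1) - 1)

/-- the loss in `v_p |K|` -/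
def l1 (p f : ℕ) : ℕ := if p = 2 then 2 + f.factorization 2 else f.factorization p

/-- the loss in `v_p |M|` -/
def l2 (p m : ℕ) : ℕ := if p = 2 then 2 else (m * (m - 1)).factorization p

/-- **the abstract situation of F-D+2** -/
structure Sit (p f m : ℕ) {F V K : Type*} [Field F] [Fintype F] [AddCommGroup V] [Module F V] [FiniteDimensional F V]
    [Group K] [Finite K] (Q : QuadraticForm F V) (ρ : K →* (V ≃ₗ[F] V)) : Prop where
  fr : Fr p f m
  card : Fintype.card F = p ^ f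
  dim : finrank F V = 2 * m
  nondeg : Nondeg Q
  inj : Function.Injective ρ
  iso : ∀ g v, Q (ρ g v) = Q v
  /-- no nontrivial element fixes an anisotropic plane pointwise -/
  small : ∀ g : K, g ≠ 1 → ∀ U : Submodule F V, (∀ u ∈ U, ρ g u = u) →
    (∀ u ∈ U, (∀ w ∈ U, polar Q u w = 0) → u = 0) → finrank F U ≤ 2
  dvd : Nat.card K ∣ NN (p ^ f) m
  val : f * (2 * m - 2) ≤ (Nat.card K).factorization p + l1 p f
  prim : ∀ r : ℕ, r.Prime → (orderOf (p : ZMod r) = f * m ∨ orderOf (p : ZMod r) = f * (m - 1)) → r ∣ Nat.card K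
  /-- `K` is normal in a group which is transitive on the hyperplanes of `W` -/
  half : ∀ A : Subgroup K, A.Characteristic → ∀ W : Submodule F V, (∀ v, v ∈ W ↔ ∀ a ∈ A, ρ a v = v) →
    finrank F W = m → (∀ w ∈ W, Q w = 0) → ∀ H₁ ≤ W, ∀ H₂ ≤ W, finrank F H₁ = m - 1 → finrank F H₂ = m - 1 →
    Nat.card {g : K // H₁.map (ρ g : V →ₗ[F] V) = H₁} = Nat.card {g : K // H₂.map (ρ g : V →ₗ[F] V) = H₂}

end Cfsg.Agent.H117.Rd
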