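import Cfsg.Agent.H997.Rg.Core

/-!
# S3691, F-D+2 (helper117): the characteristic subgroup `M` minimal with `r ∣ |M|`

If the `r`-subgroups of `K` are cyclic, `M` has a largest proper normal subgroup `L`, `L` is characteristic in `K`, `r ∤ |L|`,
`M / L` is simple.
-/

set_option autoImplicit false

namespace Cfsg.Agent.H117.Rd

open Cfsg.Agent.H997.Rg (conj_of_cyclic)

variable {K : Type*} [Group K] [Finite K]

theorem exists_min {r : ℕ} (hr : r.Prime) (hcyc : ∀ A : Subgroup K, IsPGroup r A → IsCyclic A) (hrK : r ∣ Nat.card K) :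
    ∃ M : Subgroup K, M.Characteristic ∧ r ∣ Nat.card M ∧ ∃ (L : Subgroup M) (_ : L.Normal), ¬ r ∣ Nat.card L ∧
      (L.map M.subtype).Characteristic ∧ IsSimpleGroup (M ⧸ L) := by
  classical
  have hrF := Fact.mk hr
  -- the minimal characteristic subgroup
  have hex : ∃ n, ∃ M : Subgroup K, M.Characteristic ∧ r ∣ Nat.card M ∧ Nat.card M = n :=
    ⟨_, ⊤, inferInstance, by rwa [Subgroup.card_top], rfl⟩
  obtain ⟨M, hMc, hrM, hMn⟩ := Nat.find_spec hex
  have hmin : ∀ M' : Subgroup K, M'.Characteristic → r ∣ Nat.card M' → Nat.card M ≤ Nat.card M' := by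
    intro M' h1 h2
    rw [hMn]
    exact Nat.find_min' hex ⟨M', h1, h2, rfl⟩
  have hcycM : ∀ P : Sylow r M, IsCyclic P := by
    intro P
    have h1 := hcyc ((P : Subgroup M).map M.subtype) (P.2.map _)
    exact isCyclic_of_injective ((P : Subgroup M).equivMapOfInjective M.subtype M.subtype_injective).toMonoidHom
      (MulEquiv.injective _)
  -- the automorphisms of `K` act on `M`
  have hMe : ∀ φ : K ≃* K, M.map φ.toMonoidHom = M := Subgroup.characteristic_iff_map_eq.1 hMc
  -- proper normal subgroups of `M`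
  have hprop : ∀ L : Subgroup M, L.Normal → L ≠ ⊤ → ¬ r ∣ Nat.card L := by
    intro L hL hLt hrL
    have hall : ∀ u : M, orderOf u = r → u ∈ L := by
      intro u hu
      obtain ⟨a, ha⟩ := exists_prime_orderOf_dvd_card' r hrL
      obtain ⟨g, hg⟩ := conj_of_cyclic hr hcycM (a := u) (b := (a : M)) hu (by rw [Subgroup.orderOf_coe]; exact ha)
      have h1 : u ∈ Subgroup.zpowers (g * a * g⁻¹) := by rw [hg]; exact Subgroup.mem_zpowers u
      exact (Subgroup.zpowers_le.2 (hL.conj_mem a a.2 g)) h1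
    let J : Subgroup K := ⨅ φ : K ≃* K, (L.map M.subtype).map φ.toMonoidHom
    have hJc : J.Characteristic := by
      rw [Subgroup.characteristic_iff_map_le]
      intro φ x hx
      obtain ⟨x, hx, rfl⟩ := hx
      rw [Subgroup.mem_iInf]
      intro ψ
      have h1 : x ∈ (L.map M.subtype).map (ψ.trans φ.symm).toMonoidHom := (Subgroup.mem_iInf.1 hx) (ψ.trans φ.symm)
      obtain ⟨z, hz, hzx⟩ := h1
      refine ⟨z, hz, ?_⟩
      change ψ z = φ x
      rw [← hzx]
      change ψ z = φ (φ.symm (ψ z))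
      rw [MulEquiv.apply_symm_apply]
    obtain ⟨u, hu⟩ := exists_prime_orderOf_dvd_card' r hrM
    have huJ : (u : K) ∈ J := by
      rw [Subgroup.mem_iInf]
      intro φ
      have h1 : (u : K) ∈ M.map φ.toMonoidHom := by rw [hMe]; exact u.2
      obtain ⟨z, hz, hzu⟩ := h1
      have hzu' : φ z = u := hzu
      refine ⟨z, ⟨⟨z, hz⟩, hall _ ?_, rfl⟩, hzu⟩
      rw [Subgroup.orderOf_mk, ← MulEquiv.orderOf_eq φ z, hzu', Subgroup.orderOf_coe]
      exact hu
    have hrJ : r ∣ Nat.card J := by
      have h1 := Subgroup.orderOf_dvd_natCard J huJ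
      rwa [Subgroup.orderOf_coe, hu] at h1
    have h2 := hmin J hJc hrJ
    have h3 : J ≤ L.map M.subtype := by
      intro x hx
      have h1 := (Subgroup.mem_iInf.1 hx) (MulEquiv.refl K)
      obtain ⟨z, hz, hzx⟩ := h1
      have : z = x := hzx
      rwa [← this]
    have h4 := Subgroup.card_le_of_le h3
    rw [Subgroup.card_map_of_injective M.subtype_injective] at h4
    have h5 : L = ⊤ := Subgroup.eq_top_of_card_eq L (le_antisymm (Subgroup.card_le_card_group L) (h2.trans h4))
    exact hLt h5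
  -- a largest proper normal subgroup
  have hMnt : Nontrivial M := by
    obtain ⟨u, hu⟩ := exists_prime_orderOf_dvd_card' r hrM
    refine ⟨u, 1, ?_⟩
    rintro rfl
    rw [orderOf_one] at hu
    exact hr.ne_one hu.symm
  have hexL : ∃ L : Subgroup M, (L.Normal ∧ L ≠ ⊤) ∧ ∀ L' : Subgroup M, (L'.Normal ∧ L' ≠ ⊤) → Nat.card L' ≤ Nat.card L := by
    have hfin : (Set.univ : Set (Subgroup M)).Finite := Set.toFinite _
    have hne : {L : Subgroup M | L.Normal ∧ L ≠ ⊤}.Nonempty := ⟨⊥, inferInstance, bot_ne_top⟩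
    obtain ⟨L, hL, hL'⟩ := Set.exists_max_image {L : Subgroup M | L.Normal ∧ L ≠ ⊤} (fun L => Nat.card L) (Set.toFinite _) hne
    exact ⟨L, hL, hL'⟩
  obtain ⟨L, ⟨hLn, hLt⟩, hLmax⟩ := hexL
  have hrL := hprop L hLn hLt
  have hle : ∀ L' : Subgroup M, L'.Normal → L' ≠ ⊤ → L' ≤ L := by
    intro L' hL'n hL't
    have hrL' := hprop L' hL'n hL't
    by_cases h1 : L ⊔ L' = ⊤
    · exfalso
      have h2 : L'.relIndex (L ⊔ L') = L'.relIndex L := Subgroup.relIndex_sup_right L L'
      rw [h1, Subgroup.relIndex_top_right] at h2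
      have h3 : Nat.card L' * L'.index = Nat.card M := L'.card_mul_index
      have h4 : L'.index ∣ Nat.card L := by rw [h2]; exact Subgroup.relIndex_dvd_card L' L
      rw [← h3, hr.dvd_mul] at hrM
      rcases hrM with h5 | h5
      · exact hrL' h5
      · exact hrL (h5.trans h4)
    · have h2 : Nat.card (L ⊔ L' : Subgroup M) ≤ Nat.card L := hLmax (L ⊔ L') ⟨inferInstance, h1⟩
      have h3 : L = L ⊔ L' := Subgroup.eq_of_le_of_card_ge le_sup_left h2
      rw [h3]
      exact le_sup_right
  refine ⟨M, hMc, hrM, L, hLn, hrL, ?_, ?_⟩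
  · rw [Subgroup.characteristic_iff_map_le]
    intro φ
    let e : M ≃* M := (φ.subgroupMap M).trans (MulEquiv.subgroupCongr (hMe φ))
    have he : ∀ x : M, ((e x : M) : K) = φ x := fun x => rfl
    have h1 : L.map e.toMonoidHom ≤ L := by
      apply hle
      · exact hLn.map _ e.surjective
      · intro h
        apply hLt
        rw [eq_top_iff]
        intro x _
        have h2 : e x ∈ L.map e.toMonoidHom := by rw [h]; trivial
        obtain ⟨z, hz, hzx⟩ := h2
        have : z = x := e.injective hzx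
        rwa [← this]
    rintro _ ⟨_, ⟨x, hx, rfl⟩, rfl⟩
    have h2 : e x ∈ L := h1 ⟨x, hx, rfl⟩
    exact ⟨e x, h2, he x⟩
  · have hnt : Nontrivial (M ⧸ L) := by
      rw [← not_subsingleton_iff_nontrivial]
      intro h
      exact hLt (QuotientGroup.subsingleton_iff.1 h)
    refine ⟨fun N hN => ?_⟩
    have h1 : L ≤ N.comap (QuotientGroup.mk' L) := by
      intro x hx
      have : QuotientGroup.mk' L x = 1 := (QuotientGroup.eq_one_iff x).2 hx
      rw [Subgroup.mem_comap, this]
      exact N.one_mem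
    by_cases h2 : N.comap (QuotientGroup.mk' L) = ⊤
    · right
      rw [eq_top_iff]
      intro x _
      obtain ⟨z, rfl⟩ := QuotientGroup.mk'_surjective L x
      have : z ∈ N.comap (QuotientGroup.mk' L) := by rw [h2]; trivial
      exact this
    · left
      have h3 := hle _ (hN.comap _) h2
      rw [Subgroup.eq_bot_iff_forall]
      intro x hx
      obtain ⟨z, rfl⟩ := QuotientGroup.mk'_surjective L x
      exact (QuotientGroup.eq_one_iff z).2 (h3 hx)

end Cfsg.Agent.H117.Rd
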