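import Cfsg.Agent.H117.Rd.Ti
import Cfsg.Agent.H117.Rd.Min
import Cfsg.Agent.H499.Rd.Par3
import Cfsg.Agent.H499.Rd.CubeB
import Cfsg.Agent.H670.Rd.P1c
import Cfsg.Agent.H60.Rd.P1a
import Cfsg.Agent.H142.Rd.P1b
import Cfsg.Agent.Lib.Zsigmondy

/-!
# S3691, F-D+2 (helper117): `Sit` is impossible

`M` characteristic in `K` and minimal with `r ∣ |M|`, `L` its largest proper normal subgroup, `S = M / L` simple, `N = L` as a subgroup of
`K`. `p ∤ |N|`: `|S| < |S|_p^3` (`cubeA`), `numS`. `|N| ≥ q^(2m)`: `cubeB`, `numS`. A characteristic `p`-subgroup: `char_false`.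
-/

set_option autoImplicit false
set_option linter.unusedSectionVars false

namespace Cfsg.Agent.H117.Rd

open Module QuadraticMap Cfsg Cfsg.Agent.LieClassical.OrthCore Cfsg.Agent.LieClassical.OrthTrans Cfsg.Agent.H955

universe u v w

/-- the coprime part -/
theorem mul_pow_le {p f m c κ a : ℕ} (hp : p.Prime) (hf : 1 ≤ f) (hm : 2 ≤ m) (hc : c ∣ NN (p ^ f) m)
    (h : c.factorization p + a = κ) : c * p ^ a ≤ p ^ κ * ((p ^ (f * m) - 1) * (p ^ (f * (m - 1)) - 1)) := by
  have hN := H670.Rd.NN_ne hp hf hm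
  have hc0 : c ≠ 0 := fun h0 => hN (Nat.eq_zero_of_zero_dvd (h0 ▸ hc))
  have h1 := Nat.ordProj_mul_ordCompl_eq_self c p
  have hcop : Nat.Coprime (c / p ^ c.factorization p) (p ^ (f * (2 * m - 2))) :=
    (Nat.coprime_ordCompl hp hc0).symm.pow_right _
  have h2 : c / p ^ c.factorization p ∣ p ^ (f * (2 * m - 2)) * ((p ^ (f * m) - 1) * (p ^ (f * (m - 1)) - 1)) := by
    refine (Dvd.intro_left _ h1).trans ?_
    rw [NN, ← pow_mul, ← pow_mul, ← pow_mul, mul_assoc] at hc
    exact hc
  have h3 := hcop.dvd_of_dvd_mul_left h2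
  have h4 : c / p ^ c.factorization p ≤ (p ^ (f * m) - 1) * (p ^ (f * (m - 1)) - 1) := by
    refine Nat.le_of_dvd ?_ h3
    have h5 : ∀ j : ℕ, j ≠ 0 → 0 < p ^ (f * j) - 1 := fun j hj => by
      have := Nat.one_lt_pow (show f * j ≠ 0 from mul_ne_zero (by omega) hj) hp.one_lt
      omega
    exact Nat.mul_pos (h5 _ (by omega)) (h5 _ (by omega))
  calc c * p ^ a = p ^ κ * (c / p ^ c.factorization p) := by
        conv_lhs => rw [← h1]
        rw [← h, pow_add]; ring
    _ ≤ _ := Nat.mul_le_mul_left _ h4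

/-- `v_p k ≤ m - 3` -/
theorem fact_le {p k m : ℕ} (hp : 3 ≤ p) (hk : k ≠ 0) (hkm : k ≤ m) (hm : 5 ≤ m) : k.factorization p + 3 ≤ m := by
  have h1 : p ^ k.factorization p ≤ k := Nat.ordProj_le p hk
  rcases Nat.lt_or_ge (k.factorization p) 3 with h2 | h2
  · omega
  · have h3 : ∀ v : ℕ, 3 ≤ v → v + 3 ≤ 3 ^ v := by
      intro v hv
      induction v, hv using Nat.le_induction with
      | base => norm_num
      | succ n hn ih => rw [pow_succ]; omega
    have h4 := h3 _ h2
    have h5 : 3 ^ k.factorization p ≤ p ^ k.factorization p := Nat.pow_le_pow_left hp _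
    omega

/-- the loss is small -/
theorem loss_le {p f m k : ℕ} (hfr : Fr p f m) (hk : Odd k) (hkm : k ≤ m) :
    2 * (l1 p f + (2 * k).factorization p) ≤ f * (2 * m - 3) := by
  have hk0 : k ≠ 0 := by rintro rfl; exact (by decide : ¬ Odd 0) hk
  have hf := hfr.f1
  have hm := hfr.five
  have hfv : f.factorization p < f := Nat.factorization_lt p (by omega)
  rw [Nat.factorization_mul (by omega) hk0, Finsupp.add_apply, l1]
  by_cases h2 : p = 2
  · subst h2
    rw [if_pos rfl, Nat.factorization_eq_zero_of_not_dvd (n := k) (by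
      intro h
      exact (Nat.not_even_iff_odd.2 hk) (even_iff_two_dvd.2 h)), Nat.prime_two.factorization_self]
    have h3 : f * 7 ≤ f * (2 * m - 3) := Nat.mul_le_mul_left f (by omega)
    omega
  · rw [if_neg h2, Nat.factorization_eq_zero_of_not_dvd (n := 2) (by
      intro h
      exact h2 ((Nat.prime_dvd_prime_iff_eq hfr.prime Nat.prime_two).1 h)), zero_add]
    have h3 := fact_le (p := p) (by have := hfr.prime.two_le; omega) hk0 hkm hm
    obtain ⟨j, rfl⟩ : ∃ j, m = j + 5 := ⟨m - 5, by omega⟩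
    have h4 : f * (2 * (j + 5) - 3) = f * 2 + f * (2 * j + 5) := by rw [← Nat.mul_add]; congr 1; omega
    have h5 : 1 * (2 * j + 5) ≤ f * (2 * j + 5) := Nat.mul_le_mul_right _ hf
    omega

/-- **(N1)** -/
theorem cubeA {p f m : ℕ} (hfr : Fr p f m) {k : ℕ} (hk : Odd k) (hkm : k ≤ m) {c : ℕ} (hdvd : c ∣ NN (p ^ f) m)
    (hv : f * (2 * m - 2) ≤ c.factorization p + l1 p f + (2 * k).factorization p) : c < p ^ (3 * c.factorization p) := by
  have hp := hfr.prime
  have hf := hfr.f1
  have hm := hfr.five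
  have h1 := mul_pow_le hp hf (by omega) hdvd (add_zero _)
  rw [pow_zero, mul_one] at h1
  have h2 := loss_le hfr hk hkm
  have h3 : (p ^ (f * m) - 1) * (p ^ (f * (m - 1)) - 1) < p ^ (f * m) * p ^ (f * (m - 1)) := by
    have h4 : 0 < p ^ (f * m) := Nat.pow_pos hp.pos
    have h5 : 0 < p ^ (f * (m - 1)) := Nat.pow_pos hp.pos
    exact Nat.mul_lt_mul_of_lt_of_le (by omega) (by omega) h5
  refine h1.trans_lt (lt_of_lt_of_le (Nat.mul_lt_mul_of_pos_left h3 (Nat.pow_pos hp.pos)) ?_)
  rw [← pow_add, ← pow_add]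
  refine Nat.pow_le_pow_right hp.pos ?_
  have h6 : f * m + f * (m - 1) = f * (2 * m - 2) + f := by
    rw [← Nat.mul_add]
    obtain ⟨j, rfl⟩ : ∃ j, m = j + 5 := ⟨m - 5, by omega⟩
    rw [show j + 5 + (j + 5 - 1) = (2 * (j + 5) - 2) + 1 by omega, Nat.mul_add, mul_one]
  have h7 : f * (2 * m - 2) = f * (2 * m - 3) + f := by
    rw [show 2 * m - 2 = (2 * m - 3) + 1 by omega, Nat.mul_add, mul_one]
  omega

theorem exists_pr {p f m : ℕ} (h : Fr p f m) : (∃ r, Pr p f m r m) ∧ ∃ s, Pr p f m s (m - 1) := by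
  have hp := h.prime.two_le
  have hf := h.f1
  have hm := h.five
  have h5 : m ≤ f * m := Nat.le_mul_of_pos_left m hf
  have h4 : m - 1 ≤ f * (m - 1) := Nat.le_mul_of_pos_left (m - 1) hf
  constructor
  · obtain ⟨r, hr, hro⟩ := Lib.Zsigmondy.exists_prime_orderOf (a := p) (n := f * m) hp (by omega) (fun h2 => by omega)
      (fun h6 => by
        obtain ⟨h6, h7⟩ := h6
        have h1 : f = 1 := by
          by_contra hf1
          have : 2 * m ≤ f * m := Nat.mul_le_mul_right m (by omega)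
          omega
        have := h.two h6 h1
        omega)
    exact ⟨r, hr, hro, Or.inl rfl⟩
  · obtain ⟨r, hr, hro⟩ := Lib.Zsigmondy.exists_prime_orderOf (a := p) (n := f * (m - 1)) hp (by omega) (fun h2 => by omega)
      (fun h6 => by
        obtain ⟨h6, h7⟩ := h6
        have h1 : f = 1 := by
          by_contra hf1
          have : 2 * (m - 1) ≤ f * (m - 1) := Nat.mul_le_mul_right (m - 1) (by omega)
          omega
        have := h.two h6 h1
        omega)
    exact ⟨r, hr, hro, Or.inr rfl⟩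

/-- `v_p (2 k) ≤ l2 p m` -/
theorem fact_le_l2 {p m k : ℕ} (hp : p.Prime) (hk : Odd k) (hm : 5 ≤ m) (hkm : k = m ∨ k = m - 1) :
    (2 * k).factorization p ≤ l2 p m := by
  have hk0 : k ≠ 0 := by rintro rfl; exact (by decide : ¬ Odd 0) hk
  rw [Nat.factorization_mul (by omega) hk0, Finsupp.add_apply, l2]
  by_cases h2 : p = 2
  · subst h2
    rw [if_pos rfl, Nat.factorization_eq_zero_of_not_dvd (n := k) (by
      intro h
      exact (Nat.not_even_iff_odd.2 hk) (even_iff_two_dvd.2 h)), Nat.prime_two.factorization_self]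
    omega
  · rw [if_neg h2, Nat.factorization_eq_zero_of_not_dvd (n := 2) (by
      intro h
      exact h2 ((Nat.prime_dvd_prime_iff_eq hp Nat.prime_two).1 h)), zero_add]
    refine (Nat.factorization_le_iff_dvd hk0 (mul_ne_zero (by omega) (by omega))).2 ?_ p
    rcases hkm with rfl | rfl
    · exact dvd_mul_right _ _
    · exact dvd_mul_left _ _

variable {F : Type v} {V : Type u} {K : Type u} [Field F] [Fintype F] [AddCommGroup V] [Module F V] [FiniteDimensional F V]
  [Group K] [Finite K] {ρ : K →* (V ≃ₗ[F] V)} {Q : QuadraticForm F V} {p f m r s : ℕ}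

/-- a simple group with `|S| < p ^ (3 v)`, `r ∣ |S|`, is nonabelian -/
theorem nonab {S : Type u} [Group S] [Finite S] [IsSimpleGroup S] (hr : r.Prime) (hrp : r ≠ p) (hp : p.Prime)
    (hrS : r ∣ Nat.card S) (hcube : Nat.card S < p ^ (3 * (Nat.card S).factorization p)) : ¬ IsMulCommutative S := by
  intro hc
  let _ : CommGroup S := { (inferInstance : Group S) with mul_comm := fun a b => hc.1.comm a b }
  have h1 : (Nat.card S).Prime := IsSimpleGroup.prime_card
  have h2 : r = Nat.card S := (Nat.prime_dvd_prime_iff_eq hr h1).1 hrS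
  rw [← h2, Nat.factorization_eq_zero_of_not_dvd (fun hd => hrp ((Nat.prime_dvd_prime_iff_eq hp hr).1 hd).symm)] at hcube
  have := hr.two_le
  simp at hcube
  omega

/-- **F-D+2** -/
theorem Sit.false (tab : OrdDiv.OrderTable.{u}) (hX : ∀ (X : Type u) [Group X] [Finite X] [IsSimpleGroup X], IsKnownSimple' X)
    (h : Sit p f m Q ρ) : False := by
  obtain ⟨⟨r, hr⟩, s, hs⟩ := exists_pr h.fr
  have hp := h.fr.prime
  have hf := h.fr.f1
  have hm := h.fr.five
  have hrF := Fact.mk hr.prime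
  have hsF := Fact.mk hs.prime
  have hrK : r ∣ Nat.card K := h.prim r hr.prime (Or.inl hr.ord)
  have hsK : s ∣ Nat.card K := h.prim s hs.prime (Or.inr hs.ord)
  obtain ⟨M, hMc, hrM, L, hLn, hrL, hNc, hsimp⟩ := exists_min hr.prime (fun A hA => h.cyc hr hA) hrK
  have hNcard : Nat.card (L.map M.subtype) = Nat.card L := Subgroup.card_map_of_injective M.subtype_injective
  have hrN : ¬ r ∣ Nat.card (L.map M.subtype) := by rwa [hNcard]
  -- `s ∤ |N|`
  have hsN : ¬ s ∣ Nat.card (L.map M.subtype) := by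
    intro hd
    obtain ⟨z, hz⟩ := exists_prime_orderOf_dvd_card' s hd
    have hzK : orderOf (z : K) = s := by rw [Subgroup.orderOf_coe]; exact hz
    have h1 := index_dvd_normalizer hs.prime (L.map M.subtype) (fun P => h.cyc_sub' hs _ P) hzK z.2
    have h2 : r ∣ (L.map M.subtype).index := by
      have h3 : Nat.card (L.map M.subtype) * (L.map M.subtype).index = Nat.card K := Subgroup.card_mul_index _
      rw [← h3, hr.prime.dvd_mul] at hrK
      exact hrK.resolve_left hrN
    obtain ⟨y, hy⟩ := exists_prime_orderOf_dvd_card' r (h2.trans h1)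
    exact zpowers_ne_bot hs.prime hzK (h.not_norm hr hs (y := (y : K)) (by rw [Subgroup.orderOf_coe]; exact hy)
      (isPGroup_zpowers hs.prime hzK) y.2)
  have hsL : ¬ s ∣ Nat.card L := by rwa [hNcard] at hsN
  -- the orders
  have hcard : Nat.card M = Nat.card (M ⧸ L) * Nat.card L := Subgroup.card_eq_card_quotient_mul_card_subgroup L
  have hrS : r ∣ Nat.card (M ⧸ L) := by
    rw [hcard, hr.prime.dvd_mul] at hrM
    exact hrM.resolve_right hrL
  have hsS' : s ∣ Nat.card M → s ∣ Nat.card (M ⧸ L) := by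
    intro hd
    rw [hcard, hs.prime.dvd_mul] at hd
    exact hd.resolve_right hsL
  have hsM : s ∣ Nat.card M ∨ (s = m ∧ f = 1 ∧ Odd m) := by
    by_cases hd : s ∣ Nat.card M
    · exact Or.inl hd
    · right
      have he : Nat.card (M.subgroupOf ⊤) = Nat.card M := Nat.card_congr (Subgroup.subgroupOfEquivOfLe le_top).toEquiv
      exact h.caseB hr hs ⊤ (M.subgroupOf ⊤) (by rwa [he]) (by rwa [he]) (by rwa [Subgroup.card_top])
  have hsS : s ∣ Nat.card (M ⧸ L) ∨ (s = m ∧ f = 1) := hsM.imp hsS' fun h1 => ⟨h1.1, h1.2.1⟩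
  have hMK : Nat.card M ∣ Nat.card K := Subgroup.card_subgroup_dvd_card M
  have hMN : Nat.card M ∣ NN (p ^ f) m := hMK.trans h.dvd
  have hSN : Nat.card (M ⧸ L) ∣ NN (p ^ f) m := (Dvd.intro _ hcard.symm).trans hMN
  have hfac : (Nat.card M).factorization p = (Nat.card (M ⧸ L)).factorization p + (Nat.card L).factorization p := by
    rw [hcard, Nat.factorization_mul Nat.card_pos.ne' Nat.card_pos.ne', Finsupp.add_apply]
  have hvK := H670.Rd.v_le hp hf (by omega) h.dvd
  have hval := h.val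
  -- the index of `M`
  obtain ⟨k, hk, hkm, hkm', hvM⟩ : ∃ k, Odd k ∧ (k = m ∨ k = m - 1) ∧ (Odd m → k = m) ∧
      (Nat.card K).factorization p ≤ (Nat.card M).factorization p + (2 * k).factorization p := by
    by_cases hodd : Odd m
    · exact ⟨m, hodd, Or.inl rfl, fun _ => rfl, h.val_index hr hodd M hrM⟩
    · have h1 : Odd (m - 1) := by
        rw [Nat.not_odd_iff_even] at hodd
        obtain ⟨j, hj⟩ := hodd
        exact ⟨j - 1, by omega⟩
      exact ⟨m - 1, h1, Or.inr rfl, fun h2 => absurd h2 hodd,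
        h.val_index hs h1 M (hsM.resolve_right fun h2 => hodd h2.2.2)⟩
  have hl2 := fact_le_l2 hp hk hm hkm
  rcases h.nzero hr hs hrK hsK (L.map M.subtype) hrN hsN with h1 | ⟨hodd, hv, h1 | ⟨P, hPc, hP1, hP⟩⟩
  · -- `p ∤ |N|`
    rw [hNcard] at h1
    have h2 : (Nat.card L).factorization p = 0 := Nat.factorization_eq_zero_of_not_dvd h1
    have hcube := cubeA h.fr hk (by omega) hSN (by omega)
    have hna := nonab (S := M ⧸ L) hr.prime (hr.ne_p h.fr) hp hrS hcube
    exact H670.Rd.numS tab (hX _) hna (H60.Rd.lcm_lie tab hna) (H142.Rd.prm_lie tab hna) h.fr hr.prime hr.ord hs.prime hs.ord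
      hrS hsS hSN hcube (Or.inl (by omega))
  · -- `|N|` large
    rw [hNcard] at h1 hv
    have hkm2 := hkm' hodd
    subst hkm2
    have hMle : (Nat.card M).factorization p ≤ (Nat.card K).factorization p :=
      (Nat.factorization_le_iff_dvd Nat.card_pos.ne' Nat.card_pos.ne').2 hMK p
    obtain ⟨a, ha⟩ := Nat.exists_eq_add_of_le hMle
    have h2 := mul_pow_le hp hf (by omega) hMN ha.symm
    have h3 : Nat.card (M ⧸ L) * p ^ (f * (2 * k)) * p ^ a ≤
        p ^ (Nat.card K).factorization p * ((p ^ (f * k) - 1) * (p ^ (f * (k - 1)) - 1)) := by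
      refine le_trans ?_ h2
      rw [hcard]
      exact Nat.mul_le_mul_right _ (Nat.mul_le_mul_left _ h1)
    have hcube := H499.Rd.cubeB (S := M ⧸ L) h.fr hodd hr.prime hr.ord hs.prime hs.ord hrS hsS hvK hval (a := a) (by omega)
      (by omega) h3
    have hna := nonab (S := M ⧸ L) hr.prime (hr.ne_p h.fr) hp hrS hcube
    have h4 : f * (2 * k - 2) = f * (k - 2) + f * k := by rw [← Nat.mul_add]; congr 1; omega
    exact H670.Rd.numS tab (hX _) hna (H60.Rd.lcm_lie tab hna) (H142.Rd.prm_lie tab hna) h.fr hr.prime hr.ord hs.prime hs.ord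
      hrS hsS hSN hcube (Or.inr ⟨hodd, by omega⟩)
  · exact H499.Rd.char_false hX h hr hs hodd P hP hP1

end Cfsg.Agent.H117.Rd
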