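import Cfsg.Agent.H117.Rd.Defs

/-!
# S3691, F-D+2 (helper117): fixed spaces of subgroups

`Fx ρ A` : the vectors fixed by the subgroup `A`; `dim_dvd` (congruences), `nd_Fx` (coprime groups have nondegenerate fixed spaces),
`fix_le` (nontrivial elements of `K` in `Sit` fix at most `m + 1` dimensions).
-/

set_option autoImplicit false
set_option linter.unusedSectionVars false

namespace Cfsg.Agent.H117.Rd

open Module QuadraticMap Cfsg.Agent.LieClassical.OrthCore Cfsg.Agent.LieClassical.OrthTrans Cfsg.Agent.H955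

section

variable {F V K : Type*} [Field F] [AddCommGroup V] [Module F V] [Group K] (ρ : K →* (V ≃ₗ[F] V))

/-- the fixed space of a subgroup -/
def Fx (A : Subgroup K) : Submodule F V where
  carrier := {v | ∀ a ∈ A, ρ a v = v}
  add_mem' := fun {u v} hu hv a ha => by rw [map_add, hu a ha, hv a ha]
  zero_mem' := fun a _ => map_zero _
  smul_mem' := fun c v hv a ha => by rw [map_smul, hv a ha]

variable {ρ}

theorem mem_Fx {A : Subgroup K} {v : V} : v ∈ Fx ρ A ↔ ∀ a ∈ A, ρ a v = v := Iff.rfl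

theorem Fx_anti {A B : Subgroup K} (h : A ≤ B) : Fx ρ B ≤ Fx ρ A := fun _ hv a ha => hv a (h ha)

theorem mem_Fx_zpowers {g : K} {v : V} : v ∈ Fx ρ (Subgroup.zpowers g) ↔ ρ g v = v := by
  constructor
  · intro h; exact h g (Subgroup.mem_zpowers g)
  · intro h a ha
    have h1 : Subgroup.zpowers g ≤ ((MulAction.stabilizer (V ≃ₗ[F] V) v).comap ρ) := by
      rw [Subgroup.zpowers_le]
      exact h
    exact h1 ha

theorem rho_mul (g h : K) (v : V) : ρ (g * h) v = ρ g (ρ h v) := by rw [map_mul]; rfl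

theorem rho_inv_apply (g : K) (v : V) : ρ g⁻¹ (ρ g v) = v := by rw [← rho_mul, inv_mul_cancel, map_one]; rfl

theorem rho_apply_inv (g : K) (v : V) : ρ g (ρ g⁻¹ v) = v := by rw [← rho_mul, mul_inv_cancel, map_one]; rfl

/-- the normaliser acts on the fixed space -/
theorem Fx_inv {A : Subgroup K} {g : K} (hg : g ∈ Subgroup.normalizer (A : Set K)) {v : V} (hv : v ∈ Fx ρ A) :
    ρ g v ∈ Fx ρ A := by
  intro a ha
  have h1 : g⁻¹ * a * g ∈ A := by
    have := (Subgroup.mem_normalizer_iff.1 (inv_mem hg) a).1 ha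
    rwa [inv_inv] at this
  have h2 := hv _ h1
  calc ρ a (ρ g v) = ρ (g * (g⁻¹ * a * g)) v := by rw [← rho_mul]; congr 2; group
    _ = ρ g v := by rw [rho_mul, h2]

theorem Fx_inv_comm {A : Subgroup K} {g : K} (hg : ∀ a ∈ A, g * a = a * g) {v : V} (hv : v ∈ Fx ρ A) :
    ρ g v ∈ Fx ρ A := by
  intro a ha
  rw [← rho_mul, ← hg a ha, rho_mul, hv a ha]

/-! ### congruences -/

/-- the action of `A` on an invariant submodule -/
@[reducible] def actU {A : Subgroup K} {U : Submodule F V} (hU : ∀ a ∈ A, ∀ u ∈ U, ρ a u ∈ U) : MulAction A U where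
  smul a u := ⟨ρ a u, hU a a.2 u u.2⟩
  one_smul u := Subtype.ext (by change ρ (1 : K) (u : V) = u; rw [map_one]; rfl)
  mul_smul a b u := Subtype.ext (by change ρ ((a : K) * b) (u : V) = ρ a (ρ b u); rw [rho_mul])

theorem card_mod {A : Subgroup K} {l : ℕ} (hl : l.Prime) (hA : IsPGroup l A) {U : Submodule F V} [Finite U]
    (hU : ∀ a ∈ A, ∀ u ∈ U, ρ a u ∈ U) : Nat.card U ≡ Nat.card (U ⊓ Fx ρ A : Submodule F V) [MOD l] := by
  have := Fact.mk hl
  let _ := actU hU
  have h1 := hA.card_modEq_card_fixedPoints (α := U)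
  have h2 : Nat.card (MulAction.fixedPoints A U) = Nat.card (U ⊓ Fx ρ A : Submodule F V) := by
    refine Nat.card_congr ⟨fun u => ⟨u.1, u.1.2, fun a ha => ?_⟩, fun u => ⟨⟨u.1, u.2.1⟩, ?_⟩, ?_, ?_⟩
    · exact congrArg Subtype.val (u.2 ⟨a, ha⟩)
    · intro a
      exact Subtype.ext (u.2.2 a a.2)
    · intro u; rfl
    · intro u; rfl
  rwa [h2] at h1

end

section

variable {F V K : Type*} [Field F] [Fintype F] [AddCommGroup V] [Module F V] [FiniteDimensional F V] [Group K]
  {ρ : K →* (V ≃ₗ[F] V)} {p f : ℕ}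

theorem fin_sub (U : Submodule F V) : Finite U := Module.finite_of_finite F

theorem card_sub (hF : Fintype.card F = p ^ f) (U : Submodule F V) : Nat.card U = p ^ (f * finrank F U) := by
  rw [Module.natCard_eq_pow_finrank (K := F) (V := U), Nat.card_eq_fintype_card, hF, pow_mul]

theorem pow_mod {l a b k : ℕ} (hl : l.Prime) (ho : orderOf (p : ZMod l) = k) (hk : 0 < k) (hab : b ≤ a)
    (h : p ^ a ≡ p ^ b [MOD l]) : k ∣ a - b := by
  have := Fact.mk hl
  have h0 : (p : ZMod l) ≠ 0 := by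
    intro h0
    rw [h0, orderOf_zero] at ho
    omega
  have h1 : (p : ZMod l) ^ a = (p : ZMod l) ^ b := by
    have := (ZMod.natCast_eq_natCast_iff _ _ _).2 h
    push_cast at this
    exact this
  have h2 : (p : ZMod l) ^ (a - b) = 1 := by
    have h3 : (p : ZMod l) ^ (a - b) * (p : ZMod l) ^ b = 1 * (p : ZMod l) ^ b := by
      rw [← pow_add, Nat.sub_add_cancel hab, h1, one_mul]
    exact mul_right_cancel₀ (pow_ne_zero _ h0) h3
  rw [← ho]
  exact orderOf_dvd_of_pow_eq_one h2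

/-- **the dimensions of the invariant submodules** -/
theorem dim_dvd (hF : Fintype.card F = p ^ f) (hf : 0 < f) {l k : ℕ} (hl : l.Prime) (ho : orderOf (p : ZMod l) = f * k)
    (hk : 0 < k) {A : Subgroup K} (hA : IsPGroup l A) {U : Submodule F V} (hU : ∀ a ∈ A, ∀ u ∈ U, ρ a u ∈ U) :
    k ∣ finrank F U - finrank F (U ⊓ Fx ρ A : Submodule F V) := by
  have := fin_sub U
  have h1 := card_mod hl hA hU
  rw [card_sub hF, card_sub hF] at h1
  have h2 : finrank F (U ⊓ Fx ρ A : Submodule F V) ≤ finrank F U := Submodule.finrank_mono inf_le_left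
  have h3 := pow_mod hl ho (Nat.mul_pos hf hk) (Nat.mul_le_mul_left f h2) h1
  rw [← Nat.mul_sub] at h3
  exact (Nat.mul_dvd_mul_iff_left hf).1 h3

/-- `p`-groups fix nonzero vectors -/
theorem exists_fix (hp : p.Prime) (hF : Fintype.card F = p ^ f) (hf : 0 < f) {A : Subgroup K} (hA : IsPGroup p A)
    {U : Submodule F V} (hU : ∀ a ∈ A, ∀ u ∈ U, ρ a u ∈ U) (h0 : U ≠ ⊥) : U ⊓ Fx ρ A ≠ ⊥ := by
  intro hb
  have := fin_sub U
  have h1 := card_mod hp hA hU
  rw [hb, card_sub hF] at h1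
  have h2 : Nat.card (⊥ : Submodule F V) = 1 := by simp
  rw [h2] at h1
  have h3 : 0 < finrank F U := by
    rw [Module.finrank_pos_iff]
    exact Submodule.nontrivial_iff_ne_bot.2 h0
  have h4 : p ∣ p ^ (f * finrank F U) := dvd_pow_self p (Nat.mul_pos hf h3).ne'
  have h5 : p ∣ 1 := (Nat.modEq_zero_iff_dvd.1 (h1.symm.trans (Nat.modEq_zero_iff_dvd.2 h4)))
  exact hp.one_lt.ne' (Nat.dvd_one.1 h5)

end

/-! ### nondegeneracy -/

section

variable {F V K : Type*} [Field F] [AddCommGroup V] [Module F V] [Group K]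
  {ρ : K →* (V ≃ₗ[F] V)} {Q : QuadraticForm F V}

theorem polar_rho (hi : ∀ g v, Q (ρ g v) = Q v) (g : K) (u w : V) : polar Q (ρ g u) (ρ g w) = polar Q u w := by
  simp only [polar, ← map_add, hi]

theorem polar_rho_left (hi : ∀ g v, Q (ρ g v) = Q v) (g : K) (u w : V) : polar Q (ρ g u) w = polar Q u (ρ g⁻¹ w) := by
  rw [← polar_rho hi g u (ρ g⁻¹ w), rho_apply_inv]

theorem perp_rho (hi : ∀ g v, Q (ρ g v) = Q v) {g : K} {U : Submodule F V} (hU : ∀ u ∈ U, ρ g⁻¹ u ∈ U) {v : V}
    (hv : v ∈ perp Q U) : ρ g v ∈ perp Q U := by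
  rw [mem_perp']
  intro w hw
  rw [polar_rho_left hi]
  exact mem_perp'.1 hv _ (hU w hw)

/-- the fixed space of a group of order prime to the characteristic is nondegenerate -/
theorem nd_Fx (hi : ∀ g v, Q (ρ g v) = Q v) (hQ : Nondeg Q) {A : Subgroup K} [Finite A] (hA : ((Nat.card A : ℕ) : F) ≠ 0)
    {u : V} (hu : u ∈ Fx ρ A) (h : ∀ w ∈ Fx ρ A, polar Q u w = 0) : u = 0 := by
  classical
  have := Fintype.ofFinite A
  apply hQ
  intro x
  have h1 : (∑ a : A, ρ (a : K) x) ∈ Fx ρ A := by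
    intro b hb
    rw [map_sum]
    refine Fintype.sum_equiv (Equiv.mulLeft (⟨b, hb⟩ : A)) _ _ fun a => ?_
    rw [← rho_mul]
    rfl
  have h2 := h _ h1
  have h3 : polar Q u (∑ a : A, ρ (a : K) x) = ∑ a : A, polar Q u (ρ (a : K) x) :=
    map_sum (polarBilin Q u) (fun a : A => ρ (a : K) x) Finset.univ
  have h4 : ∀ a : A, polar Q u (ρ (a : K) x) = polar Q u x := by
    intro a
    have h5 := polar_rho hi (a : K) u x
    rwa [hu a a.2] at h5
  rw [h3, Finset.sum_congr rfl (fun a _ => h4 a), Finset.sum_const, Finset.card_univ, ← Nat.card_eq_fintype_card,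
    ← Nat.cast_smul_eq_nsmul F, smul_eq_mul] at h2
  exact (mul_eq_zero.1 h2).resolve_left hA

/-- a complement of the radical is nondegenerate -/
theorem exists_nd [FiniteDimensional F V] (hQ : Nondeg Q) (C : Submodule F V) :
    ∃ U ≤ C, (∀ u ∈ U, (∀ w ∈ U, polar Q u w = 0) → u = 0) ∧ 2 * finrank F C ≤ finrank F U + finrank F V := by
  obtain ⟨U', hU'⟩ := Submodule.exists_isCompl ((C ⊓ perp Q C).comap C.subtype)
  refine ⟨U'.map C.subtype, ?_, ?_, ?_⟩
  · rintro _ ⟨x, -, rfl⟩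
    exact x.2
  · rintro _ ⟨u, hu, rfl⟩ h
    have h1 : (u : V) ∈ perp Q C := by
      rw [mem_perp']
      intro w hw
      obtain ⟨a, ha, b, hb, hab⟩ : ∃ a ∈ (C ⊓ perp Q C).comap C.subtype, ∃ b ∈ U', a + b = (⟨w, hw⟩ : C) := by
        have h1 : (⟨w, hw⟩ : C) ∈ ((C ⊓ perp Q C).comap C.subtype) ⊔ U' := by rw [hU'.sup_eq_top]; trivial
        exact Submodule.mem_sup.1 h1
      have h2 : w = (a : V) + (b : V) := (congrArg Subtype.val hab).symm
      rw [h2, polar_add_right]
      have h3 : polar Q (u : V) (b : V) = 0 := h _ ⟨b, hb, rfl⟩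
      have h4 : polar Q (u : V) (a : V) = 0 := by
        have : (a : V) ∈ perp Q C := ha.2
        exact mem_perp.1 this u u.2
      rw [h3, h4, add_zero]
    have h2 : u ∈ ((C ⊓ perp Q C).comap C.subtype) ⊓ U' := ⟨⟨u.2, h1⟩, hu⟩
    rw [hU'.inf_eq_bot] at h2
    exact congrArg Subtype.val ((Submodule.mem_bot F).1 h2)
  · have h1 : finrank F (U'.map C.subtype) = finrank F U' := Submodule.finrank_map_subtype_eq C U'
    have h2 := Submodule.finrank_add_eq_of_isCompl hU'
    have h3 : finrank F ((C ⊓ perp Q C).comap C.subtype) ≤ finrank F (perp Q C) := by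
      have h4 : ((C ⊓ perp Q C).comap C.subtype).map C.subtype ≤ perp Q C := by
        rintro _ ⟨x, hx, rfl⟩
        exact hx.2
      have h5 := Submodule.finrank_mono h4
      rwa [Submodule.finrank_map_subtype_eq] at h5
    have h4 := finrank_add_perp hQ C
    rw [h1]
    omega

end

/-! ### the situation -/

section

variable {F V K : Type*} [Field F] [Fintype F] [AddCommGroup V] [Module F V] [FiniteDimensional F V] [Group K] [Finite K]
  {ρ : K →* (V ≃ₗ[F] V)} {Q : QuadraticForm F V} {p f m : ℕ}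

/-- **nontrivial elements have small fixed spaces** -/
theorem Sit.fix_le (h : Sit p f m Q ρ) {g : K} (hg : g ≠ 1) {C : Submodule F V} (hC : ∀ v ∈ C, ρ g v = v) :
    finrank F C ≤ m + 1 := by
  obtain ⟨U, hUC, hU, h1⟩ := exists_nd h.nondeg C
  have h2 := h.small g hg U (fun u hu => hC u (hUC hu)) hU
  rw [h.dim] at h1
  omega

end

end Cfsg.Agent.H117.Rd
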