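import Cfsg.Agent.H117.Rd.Fin
import Cfsg.Agent.H499.Rd.Sit

/-!
# S3691, F-D+2 (helper117): `X` does not contain `Ω(P^⊥)`, `P` an anisotropic plane, in `PΩ⁺(2m, q)`, `m ≥ 5`
-/

set_option autoImplicit false

namespace Cfsg.Agent.H117.Rd

open Module QuadraticMap Cfsg Cfsg.Geo Cfsg.Agent.LieClassical.OrthCore Cfsg.Agent.LieClassical.OrthTrans
  Cfsg.Agent.H454.Reg Cfsg.Agent.H955 Cfsg.Agent.H449.Reg Cfsg.Agent.H964.Rg Cfsg.Agent.H826.Rg

universe u

/-- **F-D+2 is impossible** -/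
theorem no_resP_plus (tab : OrdDiv.OrderTable.{0})
    (hX : ∀ (X : Type) [Group X] [Finite X] [IsSimpleGroup X], IsKnownSimple' X)
    {ι F : Type} [Fintype ι] [DecidableEq ι] [Field F] [Fintype F] {Q : QuadraticForm F (ι → F)}
    {G : Type u} [Group G] [Finite G] {T X Y : Subgroup G} [T.Normal] {hG : Good Q} {eT : T ≃* POmega F (⇑Q)}
    {hI : Ind (eP hG eT)} {P : Submodule F (ι → F)} (hfac : Fac T X Y) {p f m : ℕ} (hp : p.Prime) (hf1 : 1 ≤ f) (hm : 5 ≤ m)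
    (hF : Fintype.card F = p ^ f) (hι : Fintype.card ι = 2 * m) (hpl : IsPlus Q) (hP : ResP hI X P)
    (e : T ≃* POmega F (quadFormPlus m F)) : False :=
  (H499.Rd.sit_plus hfac hp hf1 hm hF hι hpl hP e).false tab hX

end Cfsg.Agent.H117.Rd
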