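import Cfsg.Agent.H117.Rd.Str

/-!
# S3691, F-D+2 (helper117): `p`-subgroups normalised by an element of order `r`

`TS` : `W` totally singular of dimension `m`; `CW W` : the pointwise stabiliser of `W` (elementary abelian).

* `Sit.ts` : the fixed space of a nontrivial `p`-group normalised by `y`
* `Sit.card_odd` : `m` odd: such a group has order `q ^ m`
* `Sit.even_false` : `m` even: there is no nontrivial `p`-group normalised by `y` and `z`
* `Sit.ti` : the trivial intersection property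
-/

set_option autoImplicit false
set_option linter.unusedSectionVars false

namespace Cfsg.Agent.H117.Rd

open Module QuadraticMap Cfsg.Agent.LieClassical.OrthCore Cfsg.Agent.LieClassical.OrthTrans Cfsg.Agent.H955
open Cfsg.Agent.H997.Rg (nc card_nc)

/-! ### conjugation -/

section

variable {K : Type*} [Group K] [Finite K]

/-- the fixed points of `A` on a subgroup `P` which it normalises -/
theorem card_conj_mod {l : ℕ} (hl : l.Prime) {A P : Subgroup K} (hA : IsPGroup l A)
    (hAP : A ≤ Subgroup.normalizer (P : Set K)) :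
    Nat.card P ≡ Nat.card (P ⊓ Subgroup.centralizer (A : Set K) : Subgroup K) [MOD l] := by
  have := Fact.mk hl
  let _ : MulAction A P :=
    { smul := fun a x => ⟨a * x * (a : K)⁻¹, ((Subgroup.mem_normalizer_iff.1 (hAP a.2)) x).1 x.2⟩
      one_smul := fun x => Subtype.ext (by change (1 : K) * x * (1 : K)⁻¹ = x; group)
      mul_smul := fun a b x => Subtype.ext (by
        change ((a : K) * b) * x * ((a : K) * b)⁻¹ = a * (b * x * (b : K)⁻¹) * (a : K)⁻¹
        group) }
  have h1 := hA.card_modEq_card_fixedPoints (α := P)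
  have h2 : Nat.card (MulAction.fixedPoints A P) = Nat.card (P ⊓ Subgroup.centralizer (A : Set K) : Subgroup K) := by
    refine Nat.card_congr ⟨fun u => ⟨u.1, u.1.2, ?_⟩, fun u => ⟨⟨u.1, u.2.1⟩, ?_⟩, ?_, ?_⟩
    · refine Subgroup.mem_centralizer_iff.2 ?_
      intro a ha
      have h3 : a * (u.1 : K) * a⁻¹ = u.1 := congrArg Subtype.val (u.2 ⟨a, ha⟩)
      rw [mul_inv_eq_iff_eq_mul] at h3
      exact h3
    · intro a
      apply Subtype.ext
      have h3 := (Subgroup.mem_centralizer_iff.1 u.2.2) a a.2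
      change (a : K) * u.1 * (a : K)⁻¹ = u.1
      rw [mul_inv_eq_iff_eq_mul]
      exact h3
    · intro u; rfl
    · intro u; rfl
  rwa [h2] at h1

end

section

variable {F V K : Type*} [Field F] [AddCommGroup V] [Module F V] [Group K]
  {ρ : K →* (V ≃ₗ[F] V)} {Q : QuadraticForm F V} {m : ℕ}

/-- `W` is totally singular of dimension `m` and its own perpendicular space -/
structure TS (Q : QuadraticForm F V) (m : ℕ) (W : Submodule F V) : Prop where
  dim : finrank F W = m
  perp_eq : perp Q W = W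
  sing : ∀ w ∈ W, Q w = 0

/-- the pointwise stabiliser -/
def CW (ρ : K →* (V ≃ₗ[F] V)) (W : Submodule F V) : Subgroup K where
  carrier := {a | ∀ w ∈ W, ρ a w = w}
  one_mem' := fun w _ => by rw [map_one]; rfl
  mul_mem' := fun {a b} ha hb w hw => by rw [rho_mul, hb w hw, ha w hw]
  inv_mem' := fun {a} ha w hw => by
    have h1 := rho_inv_apply (ρ := ρ) a w
    rwa [ha w hw] at h1

theorem mem_CW {W : Submodule F V} {a : K} : a ∈ CW ρ W ↔ ∀ w ∈ W, ρ a w = w := Iff.rfl

theorem le_CW (P : Subgroup K) : P ≤ CW ρ (Fx ρ P) := fun a ha w hw => hw a ha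

variable (hi : ∀ g v, Q (ρ g v) = Q v) {W : Submodule F V} (hW : TS Q m W)
include hi hW

theorem CW_sub {a : K} (ha : a ∈ CW ρ W) (v : V) : ρ a v - v ∈ W := by
  rw [← hW.perp_eq, mem_perp']
  intro w hw
  rw [polar_sub_left]
  have h1 := polar_rho hi a v w
  rw [ha w hw] at h1
  rw [h1, sub_self]

/-- `polar ((a - 1) v) v = 0` -/
theorem CW_alt {a : K} (ha : a ∈ CW ρ W) (v : V) : polar Q (ρ a v - v) v = 0 := by
  have h1 := CW_sub hi hW ha v
  have h2 := hi a v
  have h3 : ρ a v = (ρ a v - v) + v := by abel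
  rw [h3, QuadraticMap.map_add (⇑Q), hW.sing _ h1, zero_add, add_eq_left] at h2
  exact h2

theorem CW_mul {a b : K} (ha : a ∈ CW ρ W) (hb : b ∈ CW ρ W) (v : V) :
    ρ (a * b) v - v = (ρ a v - v) + (ρ b v - v) := by
  have h1 := ha _ (CW_sub hi hW hb v)
  rw [map_sub] at h1
  rw [rho_mul]
  have h2 : ρ a (ρ b v) = ρ a v + (ρ b v - v) := by
    rw [← h1]; abel
  rw [h2]
  abel

/-- `CW` is abelian -/
theorem CW_comm (hinj : Function.Injective ρ) {a b : K} (ha : a ∈ CW ρ W) (hb : b ∈ CW ρ W) : a * b = b * a := by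
  apply hinj
  ext v
  have h1 := CW_mul hi hW ha hb v
  have h2 := CW_mul hi hW hb ha v
  have h3 : ρ (a * b) v - v = ρ (b * a) v - v := by rw [h1, h2]; abel
  exact sub_left_injective h3

/-- the homomorphism `a ↦ (a - 1) v` -/
def hv (v : V) : CW ρ W →* Multiplicative V where
  toFun a := Multiplicative.ofAdd (ρ (a : K) v - v)
  map_one' := by
    change Multiplicative.ofAdd (ρ (1 : K) v - v) = 1
    rw [map_one]
    change Multiplicative.ofAdd (v - v) = 1
    rw [sub_self]; rfl
  map_mul' a b := by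
    change Multiplicative.ofAdd (ρ ((a : K) * b) v - v) = _
    rw [CW_mul hi hW a.2 b.2]
    rfl

/-- elements of `CW` on spaces of dimension `m + 1` -/
theorem CW_small [FiniteDimensional F V] {a : K} (ha : a ∈ CW ρ W) {C : Submodule F V} (hWC : W ≤ C)
    (hC : finrank F C ≤ m + 1) {c c' : V} (hc : c ∈ C) (hc' : c' ∈ C) : polar Q (ρ a c - c) c' = 0 := by
  by_cases h1 : C ≤ W
  · have h2 : ρ a c - c = 0 := by rw [ha c (h1 hc), sub_self]
    rw [h2, polar_zero_left]
  obtain ⟨w0, hw0, hw0W⟩ : ∃ w0 ∈ C, w0 ∉ W := by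
    by_contra hcon
    push Not at hcon
    exact h1 hcon
  have h2 : W ⊔ (F ∙ w0) = C := by
    have h3 : W ⊔ (F ∙ w0) ≤ C := sup_le hWC (by rw [Submodule.span_singleton_le_iff_mem]; exact hw0)
    refine Submodule.eq_of_le_of_finrank_le h3 ?_
    have h4 : W < W ⊔ (F ∙ w0) := by
      refine lt_of_le_of_ne le_sup_left fun h5 => hw0W ?_
      rw [h5]
      exact Submodule.mem_sup_right (Submodule.mem_span_singleton_self w0)
    have h5 := Submodule.finrank_lt_finrank_of_lt h4
    rw [hW.dim] at h5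
    omega
  have h3 : ∀ x ∈ C, ∃ w ∈ W, ∃ α : F, x = w + α • w0 := by
    intro x hx
    rw [← h2] at hx
    obtain ⟨w, hw, y, hy, rfl⟩ := Submodule.mem_sup.1 hx
    obtain ⟨α, rfl⟩ := Submodule.mem_span_singleton.1 hy
    exact ⟨w, hw, α, rfl⟩
  obtain ⟨w, hw, α, rfl⟩ := h3 c hc
  obtain ⟨w', hw', β, rfl⟩ := h3 c' hc'
  have h4 : ρ a (w + α • w0) - (w + α • w0) = α • (ρ a w0 - w0) := by
    rw [map_add, map_smul, ha w hw, smul_sub]
    abel
  rw [h4, polar_smul_left, polar_add_right, polar_smul_right, CW_alt hi hW ha w0, smul_zero, add_zero]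
  have h5 : polar Q (ρ a w0 - w0) w' = 0 := by
    have h6 := CW_sub hi hW ha w0
    rw [← hW.perp_eq] at h6
    exact mem_perp'.1 h6 w' hw'
  rw [h5, smul_zero]

end

section

variable {F V K : Type*} [Field F] [Fintype F] [AddCommGroup V] [Module F V] [FiniteDimensional F V] [Group K] [Finite K]
  {ρ : K →* (V ≃ₗ[F] V)} {Q : QuadraticForm F V} {p f m r s l k : ℕ}

/-- **the fixed space** -/
theorem Sit.ts (h : Sit p f m Q ρ) (hr : Pr p f m r m) {y : K} (hy : orderOf y = r) {P : Subgroup K} (hP : IsPGroup p P)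
    (hP1 : P ≠ ⊥) (hyP : y ∈ Subgroup.normalizer (P : Set K)) : TS Q m (Fx ρ P) := by
  have hm := h.fr.five
  have hA := isPGroup_zpowers hr.prime hy
  have hA1 := zpowers_ne_bot hr.prime hy
  have hfw := h.fpf hr hA hA1
  have hdim : ∀ U : Submodule F V, (∀ a ∈ Subgroup.zpowers y, ∀ u ∈ U, ρ a u ∈ U) → m ∣ finrank F U := by
    intro U hU
    have h1 := dim_dvd h.card h.fr.f1 hr.prime hr.ord (by omega) hA hU
    rwa [hfw, inf_bot_eq, finrank_bot, Nat.sub_zero] at h1
  set W := Fx ρ P with hWdef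
  have hYn : Subgroup.zpowers y ≤ Subgroup.normalizer (P : Set K) := Subgroup.zpowers_le.2 hyP
  have hWy : ∀ a ∈ Subgroup.zpowers y, ∀ u ∈ W, ρ a u ∈ W := fun a ha u hu => Fx_inv (hYn ha) hu
  have hPy : ∀ a ∈ Subgroup.zpowers y, ∀ u ∈ perp Q W, ρ a u ∈ perp Q W := fun a ha u hu =>
    perp_rho h.iso (fun x hx => hWy a⁻¹ (inv_mem ha) x hx) hu
  have hPP : ∀ a ∈ P, ∀ u ∈ perp Q W, ρ a u ∈ perp Q W := fun a ha u hu =>
    perp_rho h.iso (fun x hx => by rw [hx a⁻¹ (inv_mem ha)]; exact hx) hu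
  have hV0 : (⊤ : Submodule F V) ≠ ⊥ := by
    intro h1
    have h2 : finrank F (⊤ : Submodule F V) = 0 := by rw [h1, finrank_bot]
    rw [finrank_top, h.dim] at h2
    omega
  have hW0 : W ≠ ⊥ := by
    have h1 := exists_fix (ρ := ρ) h.fr.prime h.card h.fr.f1 hP (U := ⊤) (fun _ _ _ _ => trivial) hV0
    rwa [top_inf_eq] at h1
  have hWt : W ≠ ⊤ := by
    intro h1
    apply hP1
    rw [Subgroup.eq_bot_iff_forall]
    intro a ha
    apply h.inj
    ext v
    have h2 : v ∈ W := by rw [h1]; trivial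
    rw [h2 a ha, map_one]; rfl
  have hWpos : 0 < finrank F W := by
    rw [Module.finrank_pos_iff]
    exact Submodule.nontrivial_iff_ne_bot.2 hW0
  have hWlt : finrank F W < 2 * m := by rw [← h.dim]; exact Submodule.finrank_lt hWt
  have hWm : finrank F W = m := by
    obtain ⟨c, hc⟩ := hdim W hWy
    have h1 : c ≠ 0 := by rintro rfl; omega
    have h2 : c < 2 := by
      by_contra hcon
      have : m * 2 ≤ m * c := Nat.mul_le_mul_left m (by omega)
      omega
    have h3 : c = 1 := by omega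
    rw [hc, h3, mul_one]
  have hPm : finrank F (perp Q W) = m := by
    have h1 := finrank_add_perp h.nondeg W
    rw [h.dim] at h1
    omega
  have hrad : W ⊓ perp Q W = W := by
    have h1 : perp Q W ≠ ⊥ := by
      intro h2
      rw [h2, finrank_bot] at hPm
      omega
    have h2 := exists_fix h.fr.prime h.card h.fr.f1 hP hPP h1
    rw [inf_comm] at h2
    have h3 := hdim (W ⊓ perp Q W) (fun a ha u hu => ⟨hWy a ha u hu.1, hPy a ha u hu.2⟩)
    have h4 : 0 < finrank F (W ⊓ perp Q W : Submodule F V) := by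
      rw [Module.finrank_pos_iff]
      exact Submodule.nontrivial_iff_ne_bot.2 h2
    have h5 := Nat.le_of_dvd h4 h3
    exact Submodule.eq_of_le_of_finrank_le inf_le_left (by rw [hWm]; exact h5)
  have hWP : W = perp Q W := Submodule.eq_of_le_of_finrank_eq (inf_eq_left.1 hrad) (by rw [hWm, hPm])
  refine ⟨hWm, hWP.symm, ?_⟩
  -- singularity
  have hpol : ∀ a ∈ W, ∀ b ∈ W, polar Q a b = 0 := by
    intro a ha b hb
    rw [hWP] at ha
    exact mem_perp'.1 ha b hb
  let W0 : Submodule F V :=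
    { carrier := {w | w ∈ W ∧ Q w = 0}
      zero_mem' := ⟨W.zero_mem, QuadraticMap.map_zero Q⟩
      add_mem' := fun {a b} ha hb => ⟨W.add_mem ha.1 hb.1, by
        rw [QuadraticMap.map_add (⇑Q), ha.2, hb.2, hpol a ha.1 b hb.1]; simp⟩
      smul_mem' := fun c a ha => ⟨W.smul_mem c ha.1, by rw [QuadraticMap.map_smul, ha.2, smul_zero]⟩ }
  have hW0m : ∀ w, w ∈ W0 ↔ w ∈ W ∧ Q w = 0 := fun w => Iff.rfl
  have h1 := hdim W0 (fun a ha u hu => ⟨hWy a ha u hu.1, by rw [h.iso]; exact hu.2⟩)
  have h2 : W0 ≠ ⊥ := by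
    intro h3
    -- `Q` is injective on `W`
    have hinj : Function.Injective (fun w : W => Q (w : V)) := by
      intro a b hab
      have h4 : Q ((a : V) - b) = 0 := by
        have h5 : Q ((a : V) - b) = Q (a : V) + Q (b : V) - polar Q (a : V) b := by
          have h6 : ((a : V) - b) = a + (-b : V) := sub_eq_add_neg _ _
          rw [h6, QuadraticMap.map_add (⇑Q), QuadraticMap.map_neg, polar_neg_right]
          ring
        have h7 : Q (a : V) = Q (b : V) := hab
        have h8 : polar Q (b : V) b = 0 := hpol b b.2 b b.2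
        rw [polar_self] at h8
        rw [h5, hpol a a.2 b b.2, sub_zero, h7, ← h8, two_smul]
      have h5 : (a : V) - b ∈ W0 := ⟨W.sub_mem a.2 b.2, h4⟩
      rw [h3, Submodule.mem_bot, sub_eq_zero] at h5
      exact Subtype.ext h5
    have h4 := Nat.card_le_card_of_injective _ hinj
    have h5 : Nat.card W = p ^ (f * m) := by
      have := card_sub (V := V) h.card W
      rwa [hWm] at this
    rw [h5, Nat.card_eq_fintype_card, h.card] at h4
    have h6 := (Nat.pow_le_pow_iff_right h.fr.prime.one_lt).1 h4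
    have := h.fr.f1
    have h7 : f * 2 ≤ f * m := Nat.mul_le_mul_left f (by omega)
    omega
  have h3 : 0 < finrank F W0 := by
    rw [Module.finrank_pos_iff]
    exact Submodule.nontrivial_iff_ne_bot.2 h2
  have h4 : W0 ≤ W := fun w hw => hw.1
  have h5 : W0 = W := Submodule.eq_of_le_of_finrank_le h4 (by rw [hWm]; exact Nat.le_of_dvd h3 h1)
  intro w hw
  rw [← h5] at hw
  exact hw.2

theorem Sit.val_le (h : Sit p f m Q ρ) : (Nat.card K).factorization p ≤ f * (2 * m - 2) := by
  have hp := h.fr.prime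
  have hf := h.fr.f1
  have hm := h.fr.five
  have h1 : ∀ k : ℕ, 1 ≤ k → ((p ^ f) ^ k - 1).factorization p = 0 := by
    intro k hk
    apply Nat.factorization_eq_zero_of_not_dvd
    intro hd
    have h2 : p ∣ (p ^ f) ^ k := dvd_pow (dvd_pow_self p (by omega)) (by omega)
    have h3 : 1 ≤ (p ^ f) ^ k := Nat.one_le_pow _ _ (pow_pos hp.pos _)
    have h4 := (Nat.dvd_sub_iff_right h3 h2).1 hd
    exact hp.one_lt.ne' (Nat.dvd_one.1 h4)
  have h0 : ∀ k : ℕ, 1 ≤ k → (p ^ f) ^ k - 1 ≠ 0 := by
    intro k hk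
    have : 1 < (p ^ f) ^ k := Nat.one_lt_pow (by omega) (Nat.one_lt_pow (by omega) hp.one_lt)
    omega
  have hq0 : (p ^ f) ^ (2 * m - 2) ≠ 0 := pow_ne_zero _ (pow_ne_zero _ hp.ne_zero)
  have hN0 : NN (p ^ f) m ≠ 0 := by
    unfold NN
    exact Nat.mul_ne_zero (Nat.mul_ne_zero hq0 (h0 m (by omega))) (h0 (m - 1) (by omega))
  have h2 := (Nat.factorization_le_iff_dvd Nat.card_pos.ne' hN0).2 h.dvd p
  unfold NN at h2
  rw [Nat.factorization_mul (Nat.mul_ne_zero hq0 (h0 m (by omega))) (h0 (m - 1) (by omega)),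
    Nat.factorization_mul hq0 (h0 m (by omega)), Finsupp.add_apply, Finsupp.add_apply, h1 m (by omega), h1 (m - 1) (by omega),
    add_zero, add_zero, ← pow_mul, hp.factorization_pow, Finsupp.single_eq_same] at h2
  exact h2

/-- the order of a `p`-subgroup is at most `p ^ (f (2m-2))` -/
theorem Sit.exists_card (h : Sit p f m Q ρ) {P : Subgroup K} (hP : IsPGroup p P) :
    ∃ e, Nat.card P = p ^ e ∧ e ≤ f * (2 * m - 2) := by
  have := Fact.mk h.fr.prime
  obtain ⟨e, he⟩ := IsPGroup.iff_card.1 hP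
  refine ⟨e, he, ?_⟩
  have h1 := (Nat.factorization_le_iff_dvd Nat.card_pos.ne' Nat.card_pos.ne').2 (Subgroup.card_subgroup_dvd_card P) p
  rw [he, h.fr.prime.factorization_pow, Finsupp.single_eq_same] at h1
  exact h1.trans h.val_le

/-- no fixed points of elements of order `l` on `p`-groups, `k` odd -/
theorem Sit.inf_cent (h : Sit p f m Q ρ) (hl : Pr p f m l k) (hk : Odd k) {w : K} (hw : orderOf w = l) {P : Subgroup K}
    (hP : IsPGroup p P) : P ⊓ Subgroup.centralizer (Subgroup.zpowers w : Set K) = ⊥ := by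
  rw [Subgroup.eq_bot_iff_forall]
  rintro g ⟨hg, hgw⟩
  obtain ⟨j, hj⟩ := hP ⟨g, hg⟩
  refine h.p_comm hl hk hw ?_ ⟨j, congrArg Subtype.val hj⟩
  exact ((Subgroup.mem_centralizer_iff.1 hgw) w (Subgroup.mem_zpowers w)).symm

/-- the order modulo `l` -/
theorem Sit.dvd_log (h : Sit p f m Q ρ) (hl : Pr p f m l k) (hk : Odd k) {w : K} (hw : orderOf w = l) {P : Subgroup K}
    (hP : IsPGroup p P) (hwP : w ∈ Subgroup.normalizer (P : Set K)) {e : ℕ} (he : Nat.card P = p ^ e) : f * k ∣ e := by
  have h1 := card_conj_mod hl.prime (isPGroup_zpowers hl.prime hw) (Subgroup.zpowers_le.2 hwP)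
  rw [h.inf_cent hl hk hw hP, Subgroup.card_bot, he, ← pow_zero p] at h1
  have h2 := pow_mod hl.prime hl.ord (Nat.mul_pos h.fr.f1 (by have := hl.k_ge h.fr; omega)) (Nat.zero_le e) h1
  rwa [Nat.sub_zero] at h2

/-- **`m` odd** -/
theorem Sit.card_odd (h : Sit p f m Q ρ) (hr : Pr p f m r m) (hm : Odd m) {y : K} (hy : orderOf y = r) {P : Subgroup K}
    (hP : IsPGroup p P) (hP1 : P ≠ ⊥) (hyP : y ∈ Subgroup.normalizer (P : Set K)) : Nat.card P = p ^ (f * m) := by
  obtain ⟨e, he, hle⟩ := h.exists_card hP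
  obtain ⟨c, hc⟩ := h.dvd_log hr hm hy hP hyP he
  have h5 := h.fr.five
  have hf := h.fr.f1
  have hc1 : c = 1 := by
    have h1 : c ≠ 0 := by
      rintro rfl
      rw [hc, mul_zero, pow_zero] at he
      exact hP1 (Subgroup.card_eq_one.1 he)
    have h2 : c < 2 := by
      by_contra hcon
      have h3 : f * m * 2 ≤ f * m * c := Nat.mul_le_mul_left _ (by omega)
      have h4 : f * (2 * m - 2) < f * m * 2 := by
        rw [mul_assoc]
        exact Nat.mul_lt_mul_of_pos_left (by omega) hf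
      omega
    omega
  rw [he, hc, hc1, mul_one]

/-- the order of a group trivial on `W` -/
theorem Sit.card_CW_lt (h : Sit p f m Q ρ) {W : Submodule F V} (hW : TS Q m W) {P : Subgroup K} (hP : P ≤ CW ρ W) :
    Nat.card P ≤ p ^ (f * (2 * m - 3)) := by
  classical
  have hm := h.fr.five
  have hp := h.fr.prime
  -- two vectors
  obtain ⟨v1, hv1⟩ : ∃ v1, v1 ∉ W := by
    by_contra hcon
    push Not at hcon
    have h1 : W = ⊤ := by rw [eq_top_iff]; intro x _; exact hcon x
    have h2 := hW.dim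
    rw [h1, finrank_top, h.dim] at h2
    omega
  set D1 := W ⊔ (F ∙ v1) with hD1
  have hD1f : m + 1 ≤ finrank F D1 := by
    have h4 : W < D1 := by
      refine lt_of_le_of_ne le_sup_left fun h5 => hv1 ?_
      rw [h5]
      exact Submodule.mem_sup_right (Submodule.mem_span_singleton_self v1)
    have h5 := Submodule.finrank_lt_finrank_of_lt h4
    rw [hW.dim] at h5
    omega
  have hD1f' : finrank F D1 ≤ m + 1 := by
    have h1 := Submodule.finrank_add_le_finrank_add_finrank W (F ∙ v1)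
    have h2 := finrank_span_singleton (K := F) (v := v1) (by rintro rfl; exact hv1 W.zero_mem)
    rw [hW.dim, h2] at h1
    exact h1
  obtain ⟨v2, hv2⟩ : ∃ v2, v2 ∉ D1 := by
    by_contra hcon
    push Not at hcon
    have h1 : D1 = ⊤ := by rw [eq_top_iff]; intro x _; exact hcon x
    rw [h1, finrank_top, h.dim] at hD1f'
    omega
  set D2 := D1 ⊔ (F ∙ v2) with hD2
  have hD2f : m + 2 ≤ finrank F D2 := by
    have h4 : D1 < D2 := by
      refine lt_of_le_of_ne le_sup_left fun h5 => hv2 ?_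
      rw [h5]
      exact Submodule.mem_sup_right (Submodule.mem_span_singleton_self v2)
    have h5 := Submodule.finrank_lt_finrank_of_lt h4
    omega
  have hpw : ∀ D : Submodule F V, Nat.card (perp Q D) = p ^ (f * (2 * m - finrank F D)) := by
    intro D
    rw [card_sub h.card, finrank_perp h.nondeg, h.dim]
  -- the first homomorphism
  let φ1 : P →* Multiplicative V := (hv h.iso hW v1).comp (Subgroup.inclusion hP)
  have hφ1 : ∀ a : P, φ1 a = Multiplicative.ofAdd (ρ (a : K) v1 - v1) := fun a => rfl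
  have h1 : Nat.card φ1.range ≤ p ^ (f * (m - 1)) := by
    have h2 : ∀ x : φ1.range, Multiplicative.toAdd (x : Multiplicative V) ∈ perp Q D1 := by
      rintro ⟨_, a, rfl⟩
      change ρ (a : K) v1 - v1 ∈ perp Q D1
      have haW := hP a.2
      rw [mem_perp']
      intro d hd
      obtain ⟨w, hw, x, hx, rfl⟩ := Submodule.mem_sup.1 hd
      obtain ⟨c, rfl⟩ := Submodule.mem_span_singleton.1 hx
      have h3 := CW_sub h.iso hW haW v1
      rw [← hW.perp_eq] at h3
      rw [polar_add_right, mem_perp'.1 h3 w hw, polar_smul_right, CW_alt h.iso hW haW v1, smul_zero, add_zero]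
    have h3 : Nat.card φ1.range ≤ Nat.card (perp Q D1) := by
      have := fin_sub (perp Q D1)
      refine Nat.card_le_card_of_injective
        (fun x : φ1.range => (⟨Multiplicative.toAdd (x : Multiplicative V), h2 x⟩ : perp Q D1)) ?_
      intro x y hxy
      have h4 := congrArg (fun u : perp Q D1 => (u : V)) hxy
      exact Subtype.ext h4
    rw [hpw] at h3
    refine h3.trans (Nat.pow_le_pow_right hp.pos (Nat.mul_le_mul_left f (by omega)))
  -- the kernel
  have h2 : Nat.card φ1.ker ≤ p ^ (f * (m - 2)) := by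
    have hk : ∀ a : φ1.ker, ρ ((a : P) : K) v1 = v1 := by
      intro a
      have h3 : φ1 a = 1 := a.2
      rw [hφ1] at h3
      have h4 : ρ ((a : P) : K) v1 - v1 = 0 := h3
      exact sub_eq_zero.1 h4
    have hk1 : ∀ a : φ1.ker, ∀ d ∈ D1, ρ ((a : P) : K) d = d := by
      intro a d hd
      obtain ⟨w, hw, x, hx, rfl⟩ := Submodule.mem_sup.1 hd
      obtain ⟨c, rfl⟩ := Submodule.mem_span_singleton.1 hx
      rw [map_add, map_smul, hk a, hP (a : P).2 w hw]
    have h3 : ∀ a : φ1.ker, ρ ((a : P) : K) v2 - v2 ∈ perp Q D2 := by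
      intro a
      have haW := hP (a : P).2
      rw [mem_perp']
      intro d hd
      obtain ⟨w, hw, x, hx, rfl⟩ := Submodule.mem_sup.1 hd
      obtain ⟨c, rfl⟩ := Submodule.mem_span_singleton.1 hx
      rw [polar_add_right, polar_smul_right, CW_alt h.iso hW haW v2, smul_zero, add_zero, polar_sub_left]
      have h4 := polar_rho h.iso ((a : P) : K) v2 w
      rw [hk1 a w hw] at h4
      rw [h4, sub_self]
    have h4 : Nat.card φ1.ker ≤ Nat.card (perp Q D2) := by
      have := fin_sub (perp Q D2)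
      refine Nat.card_le_card_of_injective (fun a : φ1.ker => (⟨ρ ((a : P) : K) v2 - v2, h3 a⟩ : perp Q D2)) ?_
      intro a b hab
      have h5 : ρ ((a : P) : K) v2 - v2 = ρ ((b : P) : K) v2 - v2 := congrArg Subtype.val hab
      have h6 : ρ ((a : P) : K) v2 = ρ ((b : P) : K) v2 := sub_left_injective h5
      by_contra hne
      have h7 : ((b⁻¹ * a : φ1.ker) : P) ≠ 1 := by
        intro h8
        apply hne
        have h9 : b⁻¹ * a = 1 := Subtype.ext h8
        exact (inv_mul_eq_one.1 h9).symm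
      have h8 : (((b⁻¹ * a : φ1.ker) : P) : K) ≠ 1 := fun h9 => h7 (Subtype.ext h9)
      have h9 := h.fix_le h8 (C := D2) (by
        intro d hd
        obtain ⟨w, hw, x, hx, rfl⟩ := Submodule.mem_sup.1 hd
        obtain ⟨c, rfl⟩ := Submodule.mem_span_singleton.1 hx
        rw [map_add, map_smul, hk1 (b⁻¹ * a) w hw]
        have h10 : ρ (((b⁻¹ * a : φ1.ker) : P) : K) v2 = v2 := by
          change ρ (((b : P) : K)⁻¹ * ((a : P) : K)) v2 = v2
          rw [rho_mul, h6, rho_inv_apply]
        rw [h10])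
      omega
    rw [hpw] at h4
    refine h4.trans (Nat.pow_le_pow_right hp.pos (Nat.mul_le_mul_left f (by omega)))
  have h3 : Nat.card P = Nat.card φ1.ker * Nat.card φ1.range := by
    rw [← Subgroup.index_ker, Subgroup.card_mul_index]
  rw [h3]
  refine (Nat.mul_le_mul h2 h1).trans ?_
  rw [← pow_add, ← Nat.mul_add]
  exact Nat.pow_le_pow_right hp.pos (Nat.mul_le_mul_left f (by omega))

/-- **`m` even** -/
theorem Sit.even_false (h : Sit p f m Q ρ) (hr : Pr p f m r m) (hs : Pr p f m s (m - 1)) (hm : Even m) {P : Subgroup K}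
    (hP : IsPGroup p P) (hP1 : P ≠ ⊥) {y z : K} (hy : orderOf y = r) (hz : orderOf z = s)
    (hyP : y ∈ Subgroup.normalizer (P : Set K)) (hzP : z ∈ Subgroup.normalizer (P : Set K)) : False := by
  have h5 := h.fr.five
  have hf := h.fr.f1
  have hpF := Fact.mk h.fr.prime
  have hm1 : Odd (m - 1) := by
    obtain ⟨c, hc⟩ := hm
    exact ⟨c - 1, by omega⟩
  have hts := h.ts hr hy hP hP1 hyP
  obtain ⟨e, he, -⟩ := h.exists_card hP
  have h1 := h.card_CW_lt hts (le_CW P)
  rw [he] at h1
  have h2 := (Nat.pow_le_pow_iff_right h.fr.prime.one_lt).1 h1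
  obtain ⟨c, hc⟩ := h.dvd_log hs hm1 hz hP hzP he
  have hc0 : c ≠ 0 := by
    rintro rfl
    rw [hc, mul_zero, pow_zero] at he
    exact hP1 (Subgroup.card_eq_one.1 he)
  have hc1 : c = 1 := by
    have h3 : c < 2 := by
      by_contra hcon
      have h3 : f * (m - 1) * 2 ≤ f * (m - 1) * c := Nat.mul_le_mul_left _ (by omega)
      have h4 : f * (2 * m - 3) < f * (m - 1) * 2 := by
        rw [mul_assoc]
        exact Nat.mul_lt_mul_of_pos_left (by omega) hf
      omega
    omega
  rw [hc1, mul_one] at hc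
  -- `y` centralises `P`
  have h3 := card_conj_mod hr.prime (isPGroup_zpowers hr.prime hy) (Subgroup.zpowers_le.2 hyP)
  obtain ⟨c', hc'⟩ := IsPGroup.iff_card.1 (hP.to_le (inf_le_left :
    P ⊓ Subgroup.centralizer (Subgroup.zpowers y : Set K) ≤ P))
  have h4 : c' ≤ e := by
    have := Subgroup.card_le_of_le (inf_le_left : P ⊓ Subgroup.centralizer (Subgroup.zpowers y : Set K) ≤ P)
    rw [he, hc'] at this
    exact (Nat.pow_le_pow_iff_right h.fr.prime.one_lt).1 this
  rw [he, hc'] at h3
  have h6 := pow_mod hr.prime hr.ord (Nat.mul_pos hf (by omega)) h4 h3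
  have h7 : e - c' = 0 := by
    rcases Nat.eq_zero_or_pos (e - c') with h8 | h8
    · exact h8
    · have := Nat.le_of_dvd h8 h6
      have h9 : f * (m - 1) < f * m := Nat.mul_lt_mul_of_pos_left (by omega) hf
      omega
  have h8 : P ⊓ Subgroup.centralizer (Subgroup.zpowers y : Set K) = P := by
    apply Subgroup.eq_of_le_of_card_ge inf_le_left
    rw [he, hc']
    exact Nat.pow_le_pow_right h.fr.prime.pos (by omega)
  have h9 : P ≤ Subgroup.centralizer (Subgroup.zpowers y : Set K) := inf_eq_left.1 h8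
  -- case B in `N(P)`
  set L := Subgroup.normalizer (P : Set K) with hL
  let M : Subgroup L := (Subgroup.centralizer (P : Set K)).subgroupOf L
  have hMn : M.Normal := by
    have h10 : M = (Subgroup.normalizerMonoidHom P).ker := (Subgroup.normalizerMonoidHom_ker P).symm
    rw [h10]
    infer_instance
  have hyM : (⟨y, hyP⟩ : L) ∈ M := by
    rw [Subgroup.mem_subgroupOf, Subgroup.mem_centralizer_iff]
    intro x hx
    exact ((Subgroup.mem_centralizer_iff.1 (h9 hx)) y (Subgroup.mem_zpowers y)).symm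
  have h10 : r ∣ Nat.card M := by
    have h11 := Subgroup.orderOf_dvd_natCard M hyM
    rwa [Subgroup.orderOf_mk, hy] at h11
  have h11 : s ∣ Nat.card L := by
    have h12 := Subgroup.orderOf_dvd_natCard L hzP
    rwa [hz] at h12
  have h12 : ¬ s ∣ Nat.card M := by
    intro h13
    have := Fact.mk hs.prime
    obtain ⟨x, hx⟩ := exists_prime_orderOf_dvd_card' s h13
    have hxK : orderOf ((x : L) : K) = s := by rw [Subgroup.orderOf_coe, Subgroup.orderOf_coe]; exact hx
    have h14 := h.inf_cent hs hm1 hxK hP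
    apply hP1
    rw [← h14, eq_comm, inf_eq_left]
    intro g hg
    have h15 : ((x : L) : K) ∈ Subgroup.centralizer (P : Set K) := Subgroup.mem_subgroupOf.1 x.2
    have h16 := (Subgroup.mem_centralizer_iff.1 h15) g hg
    rw [Subgroup.mem_centralizer_iff]
    intro u hu
    obtain ⟨i, rfl⟩ := Subgroup.mem_zpowers_iff.1 hu
    exact ((show Commute g ((x : L) : K) from h16).zpow_right i).eq.symm
  obtain ⟨-, -, h13⟩ := h.caseB hr hs L M h10 h12 h11
  exact (Nat.not_even_iff_odd.2 h13) hm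

end

end Cfsg.Agent.H117.Rd
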