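import Cfsg.Agent.H117.Rd.Comm

/-!
# S3691, F-D+2 (helper117): the structure of `K`

`Pr p f m l k` : `l` prime, `ord_l(p) = f k`, `k = m` or `k = m - 1`.

* `dim_Fx` : the fixed space of a nontrivial `l`-group has dimension `2 m - 2 k`
* `not_norm` : an element of order `r` (`k = m`) normalises no nontrivial `s`-group (`k = m - 1`)
* `p_comm` (`k` odd) : no `p`-element commutes with an element of order `l`
* `nc_dvd` : `|N(⟨w⟩) : C(w)|` divides `2 k`; `cyc` : `l`-subgroups are cyclic
* `caseB`, `val_index`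
-/

set_option autoImplicit false
set_option linter.unusedSectionVars false

namespace Cfsg.Agent.H117.Rd

open Module QuadraticMap Cfsg.Agent.LieClassical.OrthCore Cfsg.Agent.LieClassical.OrthTrans Cfsg.Agent.H955
open Cfsg.Agent.H997.Rg (nc card_nc Fpf conj_of_cyclic)

/-- the primes -/
structure Pr (p f m l k : ℕ) : Prop where
  prime : l.Prime
  ord : orderOf (p : ZMod l) = f * k
  k_or : k = m ∨ k = m - 1

section nums

variable {p f m l k : ℕ}

theorem Pr.k_ge (h : Pr p f m l k) (hfr : Fr p f m) : 4 ≤ k := by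
  have := hfr.five
  rcases h.k_or with h1 | h1 <;> omega

theorem Pr.lt (h : Pr p f m l k) (hfr : Fr p f m) : f * k < l := by
  have := Fact.mk h.prime
  have h0 : (p : ZMod l) ≠ 0 := by
    intro h0
    have h1 := h.ord
    rw [h0, orderOf_zero] at h1
    have := Nat.mul_pos hfr.f1 (show 0 < k by have := h.k_ge hfr; omega)
    omega
  have h1 := ZMod.orderOf_dvd_card_sub_one h0
  rw [h.ord] at h1
  have h2 := h.prime.two_le
  have := Nat.le_of_dvd (by omega) h1
  omega

theorem Pr.le (h : Pr p f m l k) (hfr : Fr p f m) : 5 ≤ l := by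
  have h1 := h.lt hfr
  have h2 := h.k_ge hfr
  have h3 := hfr.f1
  have : k ≤ f * k := Nat.le_mul_of_pos_left k h3
  omega

theorem Pr.ne_p (h : Pr p f m l k) (hfr : Fr p f m) : l ≠ p := by
  rintro rfl
  have := Fact.mk h.prime
  have h1 := h.ord
  rw [ZMod.natCast_self, orderOf_zero] at h1
  have := Nat.mul_pos hfr.f1 (show 0 < k by have := h.k_ge hfr; omega)
  omega

end nums

section

variable {F V K : Type*} [Field F] [Fintype F] [AddCommGroup V] [Module F V] [FiniteDimensional F V] [Group K] [Finite K]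
  {ρ : K →* (V ≃ₗ[F] V)} {Q : QuadraticForm F V} {p f m r s l k : ℕ}

theorem Sit.charP (h : Sit p f m Q ρ) : CharP F p := by
  have := Fact.mk h.fr.prime
  exact charP_of_card_eq_prime_pow h.card

theorem Sit.ne_zero (h : Sit p f m Q ρ) (hl : Pr p f m l k) : (l : F) ≠ 0 := by
  have := h.charP
  intro h0
  rw [CharP.cast_eq_zero_iff F p l] at h0
  exact hl.ne_p h.fr ((Nat.prime_dvd_prime_iff_eq h.fr.prime hl.prime).1 h0).symm

theorem Sit.nd_Fx_of (h : Sit p f m Q ρ) (hl : Pr p f m l k) {A : Subgroup K} (hA : IsPGroup l A) {u : V}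
    (hu : u ∈ Fx ρ A) (h1 : ∀ w ∈ Fx ρ A, polar Q u w = 0) : u = 0 := by
  have := Fact.mk hl.prime
  refine nd_Fx h.iso h.nondeg ?_ hu h1
  obtain ⟨n, hn⟩ := IsPGroup.iff_card.1 hA
  rw [hn, Nat.cast_pow]
  exact pow_ne_zero _ (h.ne_zero hl)

/-- **fixed spaces** -/
theorem Sit.dim_Fx (h : Sit p f m Q ρ) (hl : Pr p f m l k) {A : Subgroup K} (hA : IsPGroup l A) (hA1 : A ≠ ⊥) :
    finrank F (Fx ρ A) = 2 * m - 2 * k := by
  have hk4 := hl.k_ge h.fr
  have h1 := dim_dvd (ρ := ρ) h.card h.fr.f1 hl.prime hl.ord (by omega) hA (U := ⊤) (fun _ _ _ _ => trivial)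
  rw [top_inf_eq, finrank_top, h.dim] at h1
  obtain ⟨g, hg, hg1⟩ : ∃ g ∈ A, g ≠ 1 := by
    by_contra hcon
    push Not at hcon
    exact hA1 ((Subgroup.eq_bot_iff_forall A).2 hcon)
  have h2 : finrank F (Fx ρ A) ≤ 2 := h.small g hg1 _ (fun u hu => hu g hg) (fun u hu hw => h.nd_Fx_of hl hA hu hw)
  have h5 := h.fr.five
  obtain ⟨c, hc⟩ := h1
  have hc2 : c = 2 := by
    rcases hl.k_or with rfl | rfl
    · have h3 : c ≤ 2 := by
        by_contra hcon
        have : k * 3 ≤ k * c := Nat.mul_le_mul_left k (by omega)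
        omega
      have h4 : 1 < c := by
        by_contra hcon
        have : k * c ≤ k * 1 := Nat.mul_le_mul_left k (by omega)
        omega
      omega
    · have h3 : c ≤ 2 := by
        by_contra hcon
        have : (m - 1) * 3 ≤ (m - 1) * c := Nat.mul_le_mul_left _ (by omega)
        omega
      have h4 : 1 < c := by
        by_contra hcon
        have : (m - 1) * c ≤ (m - 1) * 1 := Nat.mul_le_mul_left _ (by omega)
        omega
      omega
  subst hc2
  omega

theorem isPGroup_zpowers {w : K} {l : ℕ} (hl : l.Prime) (hw : orderOf w = l) : IsPGroup l (Subgroup.zpowers w) := by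
  have := Fact.mk hl
  rw [IsPGroup.iff_card]
  exact ⟨1, by rw [Nat.card_zpowers, hw, pow_one]⟩

theorem zpowers_ne_bot {w : K} {l : ℕ} (hl : l.Prime) (hw : orderOf w = l) : Subgroup.zpowers w ≠ ⊥ := by
  rw [Ne, Subgroup.zpowers_eq_bot]
  rintro rfl
  rw [orderOf_one] at hw
  exact hl.ne_one hw.symm

/-- elements of order `r` are fixed point free -/
theorem Sit.fpf (h : Sit p f m Q ρ) (hr : Pr p f m r m) {A : Subgroup K} (hA : IsPGroup r A) (hA1 : A ≠ ⊥) :
    Fx ρ A = ⊥ := by
  have h1 := h.dim_Fx hr hA hA1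
  rw [Nat.sub_self] at h1
  exact Submodule.finrank_eq_zero.1 h1

/-- **`y` normalises no `s`-group** -/
theorem Sit.not_norm (h : Sit p f m Q ρ) (hr : Pr p f m r m) (hs : Pr p f m s (m - 1)) {y : K} (hy : orderOf y = r)
    {A : Subgroup K} (hA : IsPGroup s A) (hyA : y ∈ Subgroup.normalizer (A : Set K)) : A = ⊥ := by
  by_contra hA1
  have h1 := h.dim_Fx hs hA hA1
  have hm := h.fr.five
  have hYn : ∀ a ∈ Subgroup.zpowers y, ∀ u ∈ Fx ρ A, ρ a u ∈ Fx ρ A := by
    intro a ha u hu
    exact Fx_inv ((Subgroup.zpowers_le.2 hyA) ha) hu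
  have h2 := dim_dvd (ρ := ρ) h.card h.fr.f1 hr.prime hr.ord (by omega) (isPGroup_zpowers hr.prime hy) hYn
  rw [h.fpf hr (isPGroup_zpowers hr.prime hy) (zpowers_ne_bot hr.prime hy), inf_bot_eq, finrank_bot, h1] at h2
  have := Nat.le_of_dvd (by omega) h2
  omega

/-- no elements of order `r s` -/
theorem Sit.not_comm (h : Sit p f m Q ρ) (hr : Pr p f m r m) (hs : Pr p f m s (m - 1)) {y z : K} (hy : orderOf y = r)
    (hz : orderOf z = s) (hyz : y * z = z * y) : False := by
  refine zpowers_ne_bot hs.prime hz (h.not_norm hr hs hy (isPGroup_zpowers hs.prime hz) ?_)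
  have h1 : y ∈ Subgroup.centralizer (Subgroup.zpowers z : Set K) := by
    rw [Subgroup.mem_centralizer_iff]
    intro x hx
    obtain ⟨i, rfl⟩ := Subgroup.mem_zpowers_iff.1 hx
    exact ((show Commute y z from hyz).zpow_right i).eq.symm
  exact Subgroup.centralizer_le_normalizer _ h1

/-- the space `[V, A]` -/
theorem Sit.comm_dim (h : Sit p f m Q ρ) (hl : Pr p f m l k) {A : Subgroup K} (hA : IsPGroup l A) (hA1 : A ≠ ⊥) :
    finrank F (perp Q (Fx ρ A)) = 2 * k := by
  have h1 := finrank_add_perp h.nondeg (Fx ρ A)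
  rw [h.dim_Fx hl hA hA1, h.dim] at h1
  have := h.fr.five
  have hk := hl.k_or
  omega

theorem Sit.comm_nd (h : Sit p f m Q ρ) (hl : Pr p f m l k) {A : Subgroup K} (hA : IsPGroup l A) :
    Nondeg (res Q (perp Q (Fx ρ A))) := by
  apply nondeg_perp h.nondeg
  rw [nondeg_res_iff]
  intro x hx hxy
  exact h.nd_Fx_of hl hA hx hxy

theorem Sit.comm_inf (h : Sit p f m Q ρ) (hl : Pr p f m l k) {A : Subgroup K} (hA : IsPGroup l A) {v : V}
    (hv : v ∈ Fx ρ A) (hv2 : v ∈ perp Q (Fx ρ A)) : v = 0 :=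
  h.nd_Fx_of hl hA hv fun w hw => mem_perp'.1 hv2 w hw

/-- elements of order `l` are fixed point free on `[V, A]` -/
theorem Sit.comm_fpf (h : Sit p f m Q ρ) (hl : Pr p f m l k) {A : Subgroup K} (hA : IsPGroup l A) {g : K} (hg : g ∈ A)
    (hg1 : g ≠ 1) {v : V} (hv : v ∈ perp Q (Fx ρ A)) (hgv : ρ g v = v) : v = 0 := by
  have hA1 : A ≠ ⊥ := by
    rintro rfl
    exact hg1 (Subgroup.mem_bot.1 hg)
  have hz : Subgroup.zpowers g ≤ A := Subgroup.zpowers_le.2 hg
  have h1 : Fx ρ A = Fx ρ (Subgroup.zpowers g) := by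
    refine Submodule.eq_of_le_of_finrank_eq (Fx_anti hz) ?_
    rw [h.dim_Fx hl hA hA1, h.dim_Fx hl (hA.to_le hz) (by rw [Ne, Subgroup.zpowers_eq_bot]; exact hg1)]
  refine h.comm_inf hl hA ?_ hv
  rw [h1, mem_Fx_zpowers]
  exact hgv

/-- the normaliser acts on `[V, A]` -/
theorem Sit.comm_inv (h : Sit p f m Q ρ) {A : Subgroup K} (g : K) (hg : g ∈ Subgroup.normalizer (A : Set K)) (u : V)
    (hu : u ∈ perp Q (Fx ρ A)) : ρ g u ∈ perp Q (Fx ρ A) :=
  perp_rho h.iso (fun _ hx => Fx_inv (inv_mem hg) hx) hu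

theorem Sit.res_iso (h : Sit p f m Q ρ) {N : Subgroup K} {U : Submodule F V} {hU : ∀ g ∈ N, ∀ u ∈ U, ρ g u ∈ U} (g : N) (u : U) :
    res Q U (resRep ρ N U hU g u) = res Q U u := h.iso (g : K) (u : V)

/-- **no `p`-element commutes with an element of order `l`** -/
theorem Sit.p_comm (h : Sit p f m Q ρ) (hl : Pr p f m l k) (hk : Odd k) {w g : K} (hw : orderOf w = l)
    (hgw : g * w = w * g) (hg : ∃ j, g ^ p ^ j = 1) : g = 1 := by
  by_contra hg1
  have hA := isPGroup_zpowers hl.prime hw
  have hA1 := zpowers_ne_bot hl.prime hw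
  have hN : ∀ a ∈ Subgroup.centralizer ({w} : Set K), ∀ u ∈ perp Q (Fx ρ (Subgroup.zpowers w)),
      ρ a u ∈ perp Q (Fx ρ (Subgroup.zpowers w)) := by
    intro a ha u hu
    refine h.comm_inv a ?_ u hu
    have h1 : Subgroup.centralizer ({w} : Set K) = Subgroup.centralizer (Subgroup.zpowers w : Set K) := by
      rw [Subgroup.zpowers_eq_closure, Subgroup.centralizer_closure]
    rw [h1] at ha
    exact Subgroup.centralizer_le_normalizer _ ha
  set N := Subgroup.centralizer ({w} : Set K) with hNdef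
  set V1 := perp Q (Fx ρ (Subgroup.zpowers w)) with hV1
  have hwN : w ∈ N := by rw [hNdef, Subgroup.mem_centralizer_singleton_iff]
  have hgN : g ∈ N := by rw [hNdef, Subgroup.mem_centralizer_singleton_iff]; exact hgw
  have hl2 : l ≠ 2 := by have := hl.le h.fr; omega
  have h1 : ∀ v : V1, resRep ρ N V1 hN ⟨g, hgN⟩ v = v := by
    intro v
    refine comm_trivial h.fr.prime h.card h.fr.f1 hl.prime hl2 hl.ord hk (h.comm_dim hl hA hA1) (h.comm_nd hl hA)
      (fun g v => h.res_iso g v) (w := ⟨w, hwN⟩) (g := ⟨g, hgN⟩) ?_ ?_ ?_ ?_ v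
    · rw [← hw]; exact Subgroup.orderOf_mk w hwN
    · intro v hv
      refine Subtype.ext (h.comm_fpf hl hA (Subgroup.mem_zpowers w) ?_ v.2 (congrArg Subtype.val hv))
      rintro rfl
      exact hA1 (Subgroup.zpowers_one_eq_bot)
    · exact Subtype.ext hgw
    · obtain ⟨j, hj⟩ := hg
      exact ⟨j, Subtype.ext hj⟩
  have h2 := h.small g hg1 V1 (fun u hu => congrArg Subtype.val (h1 ⟨u, hu⟩)) (nondeg_res_iff.1 (h.comm_nd hl hA))
  rw [h.comm_dim hl hA hA1] at h2
  have := hl.k_ge h.fr
  omega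

/-- **the normaliser of an element of order `l`** -/
theorem Sit.nc_dvd (h : Sit p f m Q ρ) (hl : Pr p f m l k) {w : K} (hw : orderOf w = l) : nc w ∣ 2 * k := by
  have hA := isPGroup_zpowers hl.prime hw
  have hA1 := zpowers_ne_bot hl.prime hw
  set N := Subgroup.normalizer (Subgroup.zpowers w : Set K) with hNdef
  set V1 := perp Q (Fx ρ (Subgroup.zpowers w)) with hV1
  have hwN : w ∈ N := Subgroup.le_normalizer (Subgroup.mem_zpowers w)
  have hN : ∀ a ∈ N, ∀ u ∈ V1, ρ a u ∈ V1 := fun a ha u hu => h.comm_inv a ha u hu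
  have h1 := nc_dvd_two (ρ := resRep ρ N V1 hN) h.card h.fr.f1 hl.prime hl.ord (by have := hl.k_ge h.fr; omega)
    (h.comm_dim hl hA hA1) (w := ⟨w, hwN⟩) (by rw [← hw]; exact Subgroup.orderOf_mk w hwN) (by
      intro v hv
      refine Subtype.ext (h.comm_fpf hl hA (Subgroup.mem_zpowers w) ?_ v.2 (congrArg Subtype.val hv))
      rintro rfl
      exact hA1 (Subgroup.zpowers_one_eq_bot))
  have h2 : nc (⟨w, hwN⟩ : N) = nc w := by
    have h3 := card_nc (⟨w, hwN⟩ : N)
    have h4 := card_nc w
    have h5 : Subgroup.normalizer (Subgroup.zpowers (⟨w, hwN⟩ : N) : Set N) = ⊤ := by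
      rw [eq_top_iff]
      rintro ⟨g, hg⟩ -
      rw [Subgroup.mem_normalizer_iff]
      intro x
      have h6 := (Subgroup.mem_normalizer_iff.1 hg) (x : K)
      have h7 : ∀ x : N, x ∈ Subgroup.zpowers (⟨w, hwN⟩ : N) ↔ (x : K) ∈ Subgroup.zpowers w := by
        intro x
        rw [Subgroup.mem_zpowers_iff, Subgroup.mem_zpowers_iff]
        constructor
        · rintro ⟨i, rfl⟩
          exact ⟨i, rfl⟩
        · rintro ⟨i, hi⟩
          exact ⟨i, Subtype.ext hi⟩
      change x ∈ Subgroup.zpowers (⟨w, hwN⟩ : N) ↔ (⟨g, hg⟩ : N) * x * (⟨g, hg⟩ : N)⁻¹ ∈ Subgroup.zpowers (⟨w, hwN⟩ : N)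
      rw [h7, h7]
      exact h6
    rw [h5, Subgroup.card_top] at h3
    have h6 : Nat.card (Subgroup.centralizer ({(⟨w, hwN⟩ : N)} : Set N)) = Nat.card (Subgroup.centralizer ({w} : Set K)) := by
      have h7 : Subgroup.centralizer ({w} : Set K) ≤ N := by
        have h1 : Subgroup.centralizer ({w} : Set K) = Subgroup.centralizer (Subgroup.zpowers w : Set K) := by
          rw [Subgroup.zpowers_eq_closure, Subgroup.centralizer_closure]
        rw [h1]
        exact Subgroup.centralizer_le_normalizer _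
      have h8 : Subgroup.centralizer ({(⟨w, hwN⟩ : N)} : Set N) = (Subgroup.centralizer ({w} : Set K)).subgroupOf N := by
        ext x
        rw [Subgroup.mem_centralizer_singleton_iff, Subgroup.mem_subgroupOf, Subgroup.mem_centralizer_singleton_iff]
        constructor
        · intro hx; exact congrArg Subtype.val hx
        · intro hx; exact Subtype.ext hx
      rw [h8]
      exact Nat.card_congr (Subgroup.subgroupOfEquivOfLe h7).toEquiv
    rw [h6] at h3
    exact Nat.eq_of_mul_eq_mul_left Nat.card_pos (h3.symm.trans h4)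
  rwa [h2] at h1

/-- **`l`-subgroups are cyclic** -/
theorem Sit.cyc (h : Sit p f m Q ρ) (hl : Pr p f m l k) {A : Subgroup K} (hA : IsPGroup l A) : IsCyclic A := by
  by_cases hA1 : A = ⊥
  · subst hA1; infer_instance
  have hlF := Fact.mk hl.prime
  have hN : ∀ a ∈ A, ∀ u ∈ perp Q (Fx ρ A), ρ a u ∈ perp Q (Fx ρ A) := fun a ha u hu =>
    h.comm_inv a (Subgroup.le_normalizer ha) u hu
  set V1 := perp Q (Fx ρ A) with hV1
  have hd := h.comm_dim hl hA hA1
  have hnt : Nontrivial V1 := Module.nontrivial_of_finrank_pos (R := F) (by rw [hd]; have := hl.k_ge h.fr; omega)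
  have := h.charP
  let ρ' : A →* Module.End F V1 := (LinearEquiv.automorphismGroup.toLinearMapMonoidHom).comp (resRep ρ A V1 hN)
  have hf : Fpf p ρ' := by
    intro g hg _ v hv
    have hg1 : (g : K) ≠ 1 := by
      intro h1
      have : g = 1 := Subtype.ext h1
      rw [this, orderOf_one] at hg
      exact Nat.not_prime_one hg
    exact Subtype.ext (h.comm_fpf hl hA g.2 hg1 v.2 (congrArg Subtype.val hv))
  obtain ⟨P⟩ : Nonempty (Sylow l A) := inferInstance
  have hc := hf.cyc h.fr.prime hl.prime (by have := hl.le h.fr; omega) (hl.ne_p h.fr) P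
  have hP : (P : Subgroup A) = ⊤ := by
    have h1 : IsPGroup l (⊤ : Subgroup A) := hA.to_subgroup ⊤
    exact (P.3 h1 le_top).symm
  have h2 : IsCyclic (⊤ : Subgroup A) := by rw [← hP]; exact hc
  exact isCyclic_of_surjective (Subgroup.topEquiv : (⊤ : Subgroup A) ≃* A).toMonoidHom (MulEquiv.surjective _)

end

/-! ### the Frattini argument -/

section

variable {L : Type*} [Group L] [Finite L]

/-- the index of a normal subgroup containing `y` divides the order of `N(⟨y⟩)` -/
theorem index_dvd_normalizer {r : ℕ} (hr : r.Prime) (M : Subgroup L) [hM : M.Normal] (hcyc : ∀ P : Sylow r M, IsCyclic P)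
    {y : L} (hy : orderOf y = r) (hyM : y ∈ M) : M.index ∣ Nat.card (Subgroup.normalizer (Subgroup.zpowers y : Set L)) := by
  set N := Subgroup.normalizer (Subgroup.zpowers y : Set L) with hN
  have hsup : M ⊔ N = ⊤ := by
    rw [eq_top_iff]
    intro k _
    have h1 : k * y * k⁻¹ ∈ M := hM.conj_mem y hyM k
    obtain ⟨g, hg⟩ := conj_of_cyclic hr hcyc (a := ⟨y, hyM⟩) (b := ⟨k * y * k⁻¹, h1⟩)
      (by rw [Subgroup.orderOf_mk]; exact hy)
      (by rw [Subgroup.orderOf_mk, ← hy]; exact (MulAut.conj k).orderOf_eq y)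
    have h2 := congrArg (Subgroup.map M.subtype) hg
    rw [MonoidHom.map_zpowers, MonoidHom.map_zpowers] at h2
    have h3 : (g : L) * k ∈ N := by
      rw [hN, Subgroup.mem_normalizer_iff]
      have hz : Subgroup.zpowers ((g : L) * k * y * ((g : L) * k)⁻¹) = Subgroup.zpowers y := by
        rw [← show (M.subtype (g * ⟨k * y * k⁻¹, h1⟩ * g⁻¹) : L) = (g : L) * k * y * ((g : L) * k)⁻¹ by
          simp [mul_assoc]]
        exact h2
      intro h
      constructor
      · intro hh
        obtain ⟨j, rfl⟩ := Subgroup.mem_zpowers_iff.1 hh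
        rw [← conj_zpow]
        apply zpow_mem
        change _ ∈ Subgroup.zpowers y
        rw [← hz]; exact Subgroup.mem_zpowers _
      · intro hh
        have hh' : (g : L) * k * h * ((g : L) * k)⁻¹ ∈ Subgroup.zpowers y := hh
        rw [← hz] at hh'
        obtain ⟨j, hj⟩ := Subgroup.mem_zpowers_iff.1 hh'
        rw [conj_zpow] at hj
        have := mul_left_cancel (mul_right_cancel hj)
        rw [← this]; exact zpow_mem (Subgroup.mem_zpowers y) j
    have h4 : k = ((g : L)⁻¹) * ((g : L) * k) := by group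
    rw [h4]
    exact Subgroup.mul_mem_sup (M.inv_mem g.2) h3
  have h2 : M.relIndex (N ⊔ M) = M.relIndex N := Subgroup.relIndex_sup_right N M
  rw [sup_comm, hsup, Subgroup.relIndex_top_right] at h2
  rw [h2]
  exact Subgroup.relIndex_dvd_card M N

end

section

variable {F V K : Type*} [Field F] [Fintype F] [AddCommGroup V] [Module F V] [FiniteDimensional F V] [Group K] [Finite K]
  {ρ : K →* (V ≃ₗ[F] V)} {Q : QuadraticForm F V} {p f m r s l k : ℕ}

theorem Sit.cyc_sub (h : Sit p f m Q ρ) (hl : Pr p f m l k) {L : Subgroup K} (M : Subgroup L) (P : Sylow l M) :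
    IsCyclic P := by
  have h1 : IsPGroup l (((P : Subgroup M).map M.subtype).map L.subtype) := (P.2.map _).map _
  have h2 := h.cyc hl h1
  have e1 := (P : Subgroup M).equivMapOfInjective M.subtype M.subtype_injective
  have e2 := ((P : Subgroup M).map M.subtype).equivMapOfInjective L.subtype L.subtype_injective
  exact isCyclic_of_injective (e1.trans e2).toMonoidHom (MulEquiv.injective _)

theorem Sit.cyc_sub' (h : Sit p f m Q ρ) (hl : Pr p f m l k) (M : Subgroup K) (P : Sylow l M) : IsCyclic P := by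
  have h1 : IsPGroup l ((P : Subgroup M).map M.subtype) := P.2.map _
  have h2 := h.cyc hl h1
  exact isCyclic_of_injective ((P : Subgroup M).equivMapOfInjective M.subtype M.subtype_injective).toMonoidHom
    (MulEquiv.injective _)

/-- `s` does not divide `|C(y)|` -/
theorem Sit.not_dvd_cent (h : Sit p f m Q ρ) (hr : Pr p f m r m) (hs : Pr p f m s (m - 1)) {y : K} (hy : orderOf y = r) :
    ¬ s ∣ Nat.card (Subgroup.centralizer ({y} : Set K)) := by
  intro hd
  have := Fact.mk hs.prime
  obtain ⟨z, hz⟩ := exists_prime_orderOf_dvd_card' s hd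
  have h1 := z.2
  rw [Subgroup.mem_centralizer_singleton_iff] at h1
  exact h.not_comm hr hs hy (z := z) (by rw [Subgroup.orderOf_coe]; exact hz) h1.symm

/-- **case B** -/
theorem Sit.caseB (h : Sit p f m Q ρ) (hr : Pr p f m r m) (hs : Pr p f m s (m - 1)) (L : Subgroup K) (M : Subgroup L)
    [M.Normal] (hrM : r ∣ Nat.card M) (hsM : ¬ s ∣ Nat.card M) (hsL : s ∣ Nat.card L) : s = m ∧ f = 1 ∧ Odd m := by
  have hrF := Fact.mk hr.prime
  obtain ⟨y, hy⟩ := exists_prime_orderOf_dvd_card' r hrM
  have hyL : orderOf (y : L) = r := by rw [Subgroup.orderOf_coe]; exact hy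
  have hyK : orderOf ((y : L) : K) = r := by rw [Subgroup.orderOf_coe]; exact hyL
  have h1 := index_dvd_normalizer hr.prime M (fun P => h.cyc_sub hr M P) hyL y.2
  have h2 : s ∣ M.index := by
    have h3 : Nat.card M * M.index = Nat.card L := M.card_mul_index
    rw [← h3, hs.prime.dvd_mul] at hsL
    exact hsL.resolve_left hsM
  have h3 : s ∣ Nat.card (Subgroup.normalizer (Subgroup.zpowers ((y : L) : K) : Set K)) := by
    refine (h2.trans h1).trans ?_
    have h4 : (Subgroup.normalizer (Subgroup.zpowers (y : L) : Set L)).map L.subtype ≤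
        Subgroup.normalizer (Subgroup.zpowers ((y : L) : K) : Set K) := by
      rintro _ ⟨g, hg, rfl⟩
      have h5 : (Subgroup.zpowers ((y : L) : K)) = (Subgroup.zpowers (y : L)).map L.subtype := by
        rw [MonoidHom.map_zpowers]; rfl
      have hg' := Subgroup.mem_normalizer_iff.1 hg
      have h6 : (Subgroup.zpowers (y : L)).map (MulAut.conj g).toMonoidHom = Subgroup.zpowers (y : L) := by
        ext x
        constructor
        · rintro ⟨x, hx, rfl⟩
          exact (hg' x).1 hx
        · intro hx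
          refine ⟨g⁻¹ * x * g, (hg' _).2 ?_, ?_⟩
          · rw [show g * (g⁻¹ * x * g) * g⁻¹ = x by group]; exact hx
          · change g * (g⁻¹ * x * g) * g⁻¹ = x
            group
      have h7 : ∀ x ∈ Subgroup.zpowers ((y : L) : K), (g : K) * x * (g : K)⁻¹ ∈ Subgroup.zpowers ((y : L) : K) := by
        intro x hx
        rw [h5] at hx ⊢
        obtain ⟨x', hx', rfl⟩ := hx
        exact ⟨g * x' * g⁻¹, (hg' x').1 hx', rfl⟩
      have h8 : (Subgroup.zpowers ((y : L) : K)).map (MulAut.conj (g : K)).toMonoidHom = Subgroup.zpowers ((y : L) : K) := by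
        apply Subgroup.eq_of_le_of_card_ge
        · rintro _ ⟨x, hx, rfl⟩
          exact h7 x hx
        · rw [Subgroup.card_map_of_injective (MulAut.conj (g : K)).injective]
      rw [Subgroup.mem_normalizer_iff]
      intro x
      constructor
      · exact h7 x
      · intro hx
        have hx' : (g : K) * x * (g : K)⁻¹ ∈ Subgroup.zpowers ((y : L) : K) := hx
        rw [← h8] at hx'
        obtain ⟨x', hx', he⟩ := hx'
        have : x' = x := (MulAut.conj (g : K)).injective he
        rw [← this]; exact hx'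
    have h5 := Subgroup.card_dvd_of_le h4
    rwa [Subgroup.card_map_of_injective L.subtype_injective] at h5
  rw [card_nc, hs.prime.dvd_mul] at h3
  have h4 := (h3.resolve_left (h.not_dvd_cent hr hs hyK)).trans (h.nc_dvd hr hyK)
  have hs5 := hs.le h.fr
  have h5 : s ∣ m := by
    rcases (Nat.Prime.dvd_mul hs.prime).1 h4 with h6 | h6
    · exact absurd (Nat.le_of_dvd two_pos h6) (by omega)
    · exact h6
  have hm := h.fr.five
  have hf := h.fr.f1
  have h6 := Nat.le_of_dvd (by omega) h5
  have h7 := hs.lt h.fr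
  have h8 : f = 1 := by
    by_contra hne
    have : 2 * (m - 1) ≤ f * (m - 1) := Nat.mul_le_mul_right _ (by omega)
    omega
  rw [h8, one_mul] at h7
  have h9 : s = m := by omega
  refine ⟨h9, h8, ?_⟩
  rw [← h9]
  exact hs.prime.odd_of_ne_two (by omega)

/-- **the `p`-part of the index** -/
theorem Sit.val_index (h : Sit p f m Q ρ) (hl : Pr p f m l k) (hk : Odd k) (M : Subgroup K) [M.Normal]
    (hlM : l ∣ Nat.card M) : (Nat.card K).factorization p ≤ (Nat.card M).factorization p + (2 * k).factorization p := by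
  have hlF := Fact.mk hl.prime
  obtain ⟨w, hw⟩ := exists_prime_orderOf_dvd_card' l hlM
  have hwK : orderOf (w : K) = l := by rw [Subgroup.orderOf_coe]; exact hw
  have h1 := index_dvd_normalizer hl.prime M (fun P => h.cyc_sub' hl M P) hwK w.2
  rw [card_nc] at h1
  have h2 : M.index ∣ Nat.card (Subgroup.centralizer ({(w : K)} : Set K)) * (2 * k) :=
    h1.trans (Nat.mul_dvd_mul_left _ (h.nc_dvd hl hwK))
  have hk0 : 2 * k ≠ 0 := by have := hl.k_ge h.fr; omega
  have h3 : (Nat.card (Subgroup.centralizer ({(w : K)} : Set K))).factorization p = 0 := by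
    apply Nat.factorization_eq_zero_of_not_dvd
    intro hd
    have := Fact.mk h.fr.prime
    obtain ⟨g, hg⟩ := exists_prime_orderOf_dvd_card' p hd
    have hgc := g.2
    rw [Subgroup.mem_centralizer_singleton_iff] at hgc
    have hg1 := h.p_comm hl hk hwK hgc ⟨1, by
      have h5 : orderOf (g : K) = p := by rw [Subgroup.orderOf_coe]; exact hg
      rw [pow_one, ← h5, pow_orderOf_eq_one]⟩
    have : g = 1 := Subtype.ext hg1
    rw [this, orderOf_one] at hg
    exact h.fr.prime.ne_one hg.symm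
  have h4 : M.index.factorization p ≤ (2 * k).factorization p := by
    have h5 := (Nat.factorization_le_iff_dvd Subgroup.index_ne_zero_of_finite
      (Nat.mul_ne_zero Nat.card_pos.ne' hk0)).2 h2 p
    rw [Nat.factorization_mul Nat.card_pos.ne' hk0, Finsupp.add_apply, h3, zero_add] at h5
    exact h5
  have h5 : Nat.card M * M.index = Nat.card K := M.card_mul_index
  rw [← h5, Nat.factorization_mul Nat.card_pos.ne' Subgroup.index_ne_zero_of_finite, Finsupp.add_apply]
  omega

end

end Cfsg.Agent.H117.Rd
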