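import Cfsg.Agent.H117.Rd.Lin
import Cfsg.Agent.H997.Rg.Lin

/-!
# S3691, F-D+2 (helper117): the exponents of an element of prime order

`y` an endomorphism with `y ^ l = 1`, `l` prime, without nonzero fixed vector. `Theta y` : the units `t` of `ZMod l` such that
`minpoly y` kills `y ^ t`; `|Theta y| ≤ dim V`; it contains `q = |F|`, the exponents of the normaliser, and `-1` in the
situation of `comm_trivial`.

* `nc_dvd_two` : `|N_K(⟨w⟩) : C_K(w)|` divides `2 k` if `dim V = 2 k`, `w` fixed point free of order `l`, `ord_l(q) = k`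
* `comm_trivial` : `k` odd, `V` a quadratic space: `p`-elements commuting with `w` are trivial.
-/

set_option autoImplicit false
set_option linter.unusedSectionVars false

namespace Cfsg.Agent.H117.Rd

open Module QuadraticMap Cfsg.Agent.LieClassical.OrthCore Cfsg.Agent.LieClassical.OrthTrans Cfsg.Agent.H955
open Cfsg.Agent.H997.Rg (nc card_nc semiconj_aeval)

section theta

variable {F V : Type*} [Field F] [AddCommGroup V] [Module F V]

theorem pow_eq_of_mod {R : Type*} [Monoid R] {y : R} {l : ℕ} (hy : y ^ l = 1) {a b : ℕ} (h : a ≡ b [MOD l]) :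
    y ^ a = y ^ b := by
  rw [← pow_mod_orderOf, ← pow_mod_orderOf y b]
  congr 1
  exact h.of_dvd (orderOf_dvd_of_pow_eq_one hy)

theorem aeval_comp_pow (y : Module.End F V) (P : Polynomial F) (n : ℕ) :
    Polynomial.aeval y (P.comp (Polynomial.X ^ n)) = Polynomial.aeval (y ^ n) P := by
  rw [Polynomial.aeval_comp, map_pow, Polynomial.aeval_X]

/-- the exponents -/
noncomputable def Theta (y : Module.End F V) {l : ℕ} (hl : l.Prime) (hy : y ^ l = 1) : Subgroup (ZMod l)ˣ where
  carrier := {t | Polynomial.aeval (y ^ (t : ZMod l).val) (minpoly F y) = 0}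
  one_mem' := by
    have := Fact.mk hl
    have h1 : ((1 : (ZMod l)ˣ) : ZMod l).val = 1 := by rw [Units.val_one, ZMod.val_one]
    change Polynomial.aeval (y ^ ((1 : (ZMod l)ˣ) : ZMod l).val) (minpoly F y) = 0
    rw [h1, pow_one, minpoly.aeval]
  mul_mem' := by
    have := Fact.mk hl
    intro s t hs ht
    change Polynomial.aeval (y ^ ((s * t : (ZMod l)ˣ) : ZMod l).val) (minpoly F y) = 0
    have h1 : y ^ ((s * t : (ZMod l)ˣ) : ZMod l).val = (y ^ (t : ZMod l).val) ^ (s : ZMod l).val := by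
      rw [← pow_mul]
      apply pow_eq_of_mod hy
      rw [← ZMod.natCast_eq_natCast_iff]
      push_cast
      rw [ZMod.natCast_zmod_val, ZMod.natCast_zmod_val, ZMod.natCast_zmod_val, mul_comm]
    rw [h1, ← aeval_comp_pow]
    have h2 : minpoly F y ∣ (minpoly F y).comp (Polynomial.X ^ (s : ZMod l).val) := by
      apply minpoly.dvd
      rw [aeval_comp_pow]
      exact hs
    obtain ⟨R, hR⟩ := h2
    rw [hR, map_mul, show Polynomial.aeval (y ^ (t : ZMod l).val) (minpoly F y) = 0 from ht, zero_mul]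
  inv_mem' := by
    have := Fact.mk hl
    intro t ht
    have h0 : ∀ n : ℕ, Polynomial.aeval (y ^ ((t ^ n : (ZMod l)ˣ) : ZMod l).val) (minpoly F y) = 0 := by
      intro n
      induction n with
      | zero =>
        have h1 : ((t ^ 0 : (ZMod l)ˣ) : ZMod l).val = 1 := by rw [pow_zero, Units.val_one, ZMod.val_one]
        rw [h1, pow_one, minpoly.aeval]
      | succ n ih =>
        have h1 : y ^ ((t ^ (n + 1) : (ZMod l)ˣ) : ZMod l).val =
            (y ^ ((t ^ n : (ZMod l)ˣ) : ZMod l).val) ^ (t : ZMod l).val := by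
          rw [← pow_mul]
          apply pow_eq_of_mod hy
          rw [← ZMod.natCast_eq_natCast_iff]
          push_cast
          rw [pow_succ, ZMod.natCast_zmod_val, ZMod.natCast_zmod_val, ZMod.natCast_zmod_val]
        rw [h1, ← aeval_comp_pow]
        have h2 : minpoly F y ∣ (minpoly F y).comp (Polynomial.X ^ (t : ZMod l).val) := by
          apply minpoly.dvd
          rw [aeval_comp_pow]
          exact ht
        obtain ⟨R, hR⟩ := h2
        rw [hR, map_mul, ih, zero_mul]
    obtain ⟨n, hn⟩ := (isOfFinOrder_of_finite t).mem_powers_iff_mem_zpowers.2 (Subgroup.inv_mem _ (Subgroup.mem_zpowers t))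
    have hn' : t ^ n = t⁻¹ := hn
    have := h0 n
    rw [hn'] at this
    exact this

variable {y : Module.End F V} {l : ℕ} {hl : l.Prime} {hy : y ^ l = 1}

theorem mem_Theta {t : (ZMod l)ˣ} {n : ℕ} (hn : (n : ZMod l) = (t : ZMod l)) :
    t ∈ Theta y hl hy ↔ Polynomial.aeval (y ^ n) (minpoly F y) = 0 := by
  have := Fact.mk hl
  have h1 : y ^ (t : ZMod l).val = y ^ n := by
    apply pow_eq_of_mod hy
    rw [← ZMod.natCast_eq_natCast_iff, ZMod.natCast_zmod_val, hn]
  change Polynomial.aeval (y ^ (t : ZMod l).val) (minpoly F y) = 0 ↔ _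
  rw [h1]

/-- **`|Theta| ≤ dim V`** -/
theorem card_Theta_le [FiniteDimensional F V] [Nontrivial V] (hf : ∀ v, y v = v → v = 0) :
    Nat.card (Theta y hl hy) ≤ finrank F V := by
  classical
  have := Fact.mk hl
  set E := AlgebraicClosure F with hE
  set m := minpoly F y with hm
  have hint : IsIntegral F y := Algebra.IsIntegral.isIntegral _
  have hdeg : m.degree ≠ 0 := (minpoly.degree_pos hint).ne'
  obtain ⟨ζ, hζ⟩ := IsAlgClosed.exists_aeval_eq_zero E m hdeg
  have hζr : ζ ^ l = 1 := by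
    have h1 : m ∣ Polynomial.X ^ l - 1 := by
      apply minpoly.dvd
      rw [map_sub, map_pow, Polynomial.aeval_X, map_one, hy, sub_self]
    have h2 := Polynomial.aeval_eq_zero_of_dvd_aeval_eq_zero h1 hζ
    rw [map_sub, map_pow, Polynomial.aeval_X, map_one, sub_eq_zero] at h2
    exact h2
  have hζ1 : ζ ≠ 1 := by
    rintro rfl
    have h1 : m.IsRoot 1 := by
      rw [show (1 : E) = algebraMap F E 1 by rw [map_one], Polynomial.aeval_algebraMap_apply] at hζ
      have h2 := (map_eq_zero (algebraMap F E)).1 hζ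
      rw [Polynomial.IsRoot.def]
      simpa using h2
    have h2 := (Module.End.hasEigenvalue_iff_isRoot).2 h1
    obtain ⟨v, hv⟩ := h2.exists_hasEigenvector
    apply hv.2
    refine hf v ?_
    have := hv.apply_eq_smul
    rwa [one_smul] at this
  have hζo : orderOf ζ = l := orderOf_eq_prime hζr hζ1
  have hζ0 : ζ ≠ 0 := by
    rintro h0
    rw [h0, zero_pow hl.ne_zero] at hζr
    exact zero_ne_one hζr
  have hζpow : ∀ a b : ℕ, ζ ^ a = ζ ^ b ↔ a ≡ b [MOD l] := by
    intro a b
    have ho' : orderOf (Units.mk0 ζ hζ0) = l := by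
      rw [← hζo, ← orderOf_units, Units.val_mk0]
    rw [← ho', ← pow_eq_pow_iff_modEq, Units.ext_iff, Units.val_pow_eq_pow_val, Units.val_pow_eq_pow_val, Units.val_mk0]
  have hfr : Finite (m.rootSet E) := (Polynomial.rootSet_finite m E).to_subtype
  have hmr : ∀ u : Theta y hl hy, ζ ^ ((u : (ZMod l)ˣ) : ZMod l).val ∈ m.rootSet E := by
    intro u
    rw [Polynomial.mem_rootSet]
    refine ⟨minpoly.ne_zero hint, ?_⟩
    have h2 : m ∣ m.comp (Polynomial.X ^ ((u : (ZMod l)ˣ) : ZMod l).val) := by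
      apply minpoly.dvd
      rw [aeval_comp_pow]
      exact u.2
    have h7 := Polynomial.aeval_eq_zero_of_dvd_aeval_eq_zero h2 hζ
    rwa [Polynomial.aeval_comp, map_pow, Polynomial.aeval_X] at h7
  have hinj : Function.Injective (fun u : Theta y hl hy =>
      (⟨ζ ^ ((u : (ZMod l)ˣ) : ZMod l).val, hmr u⟩ : m.rootSet E)) := by
    intro u w huw
    have h1 : ζ ^ ((u : (ZMod l)ˣ) : ZMod l).val = ζ ^ ((w : (ZMod l)ˣ) : ZMod l).val := congrArg Subtype.val huw
    rw [hζpow, ← ZMod.natCast_eq_natCast_iff, ZMod.natCast_zmod_val, ZMod.natCast_zmod_val] at h1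
    exact Subtype.ext (Units.ext h1)
  have h1 : Nat.card (Theta y hl hy) ≤ Nat.card (m.rootSet E) := Nat.card_le_card_of_injective _ hinj
  have h2 : Nat.card (m.rootSet E) ≤ m.natDegree := by
    rw [Nat.card_coe_set_eq]
    exact Polynomial.ncard_rootSet_le m E
  have h3 : m.natDegree ≤ finrank F V := by
    have h4 : m ∣ y.charpoly := LinearMap.minpoly_dvd_charpoly y
    rw [← LinearMap.charpoly_natDegree y]
    exact Polynomial.natDegree_le_of_dvd h4 (LinearMap.charpoly_monic y).ne_zero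
  exact h1.trans (h2.trans h3)

/-- the order of `q` divides `|Theta|` -/
theorem dvd_card_Theta [Fintype F] {p f k : ℕ} (hF : Fintype.card F = p ^ f) (hf : 0 < f)
    (ho : orderOf (p : ZMod l) = f * k) (hk : 0 < k) : k ∣ Nat.card (Theta y hl hy) := by
  have := Fact.mk hl
  have h0 : (p : ZMod l) ≠ 0 := by
    intro h0
    rw [h0, orderOf_zero] at ho
    have := Nat.mul_pos hf hk
    omega
  have hcop : Nat.Coprime (p ^ f) l := by
    apply Nat.Coprime.pow_left
    rw [Nat.coprime_comm, hl.coprime_iff_not_dvd]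
    rwa [← ZMod.natCast_eq_zero_iff]
  set q' : (ZMod l)ˣ := ZMod.unitOfCoprime (p ^ f) hcop with hq'
  have h1 : q' ∈ Theta y hl hy := by
    rw [mem_Theta (n := p ^ f) (by rw [hq', ZMod.coe_unitOfCoprime]), ← hF, ← Polynomial.expand_aeval,
      FiniteField.expand_card, map_pow, minpoly.aeval, zero_pow Fintype.card_ne_zero]
  have h2 : orderOf q' = k := by
    rw [← orderOf_units, hq', ZMod.coe_unitOfCoprime]
    push_cast
    rw [orderOf_pow_of_dvd hf.ne' (by rw [ho]; exact Dvd.intro _ rfl), ho, Nat.mul_div_cancel_left _ hf]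
  have h3 := Subgroup.orderOf_dvd_natCard (Theta y hl hy) h1
  rwa [h2] at h3

end theta

/-! ### restricted representations -/

section

variable {F V K : Type*} [Field F] [AddCommGroup V] [Module F V] [Group K] (ρ : K →* (V ≃ₗ[F] V))

/-- the action of a subgroup on an invariant submodule -/
def resRep (N : Subgroup K) (U : Submodule F V) (hU : ∀ g ∈ N, ∀ u ∈ U, ρ g u ∈ U) : N →* (U ≃ₗ[F] U) where
  toFun g :=
    { toFun := fun u => ⟨ρ g u, hU g g.2 u u.2⟩
      invFun := fun u => ⟨ρ (g : K)⁻¹ u, hU _ (inv_mem g.2) u u.2⟩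
      map_add' := fun u v => Subtype.ext (map_add (ρ (g : K)) (u : V) v)
      map_smul' := fun c u => Subtype.ext (map_smul (ρ (g : K)) c (u : V))
      left_inv := fun u => Subtype.ext (rho_inv_apply (g : K) (u : V))
      right_inv := fun u => Subtype.ext (rho_apply_inv (g : K) (u : V)) }
  map_one' := by ext u; change ρ ((1 : N) : K) (u : V) = u; rw [Subgroup.coe_one, map_one]; rfl
  map_mul' g h := by
    ext u
    change ρ ((g * h : N) : K) (u : V) = ρ (g : K) (ρ (h : K) (u : V))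
    rw [Subgroup.coe_mul, rho_mul]

variable {ρ}

theorem coe_resRep {N : Subgroup K} {U : Submodule F V} {hU : ∀ g ∈ N, ∀ u ∈ U, ρ g u ∈ U} (g : N) (u : U) :
    ((resRep ρ N U hU g u : U) : V) = ρ (g : K) (u : V) := rfl

/-- the endomorphism of an element -/
def en (ρ : K →* (V ≃ₗ[F] V)) (g : K) : Module.End F V := (ρ g : V →ₗ[F] V)

theorem en_apply (g : K) (v : V) : en ρ g v = ρ g v := rfl

theorem en_mul (g h : K) : en ρ (g * h) = en ρ g * en ρ h := by
  ext v
  exact rho_mul g h v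

theorem en_one : en ρ (1 : K) = 1 := by
  ext v
  change ρ (1 : K) v = v
  rw [map_one]; rfl

theorem en_pow (g : K) (n : ℕ) : en ρ (g ^ n) = en ρ g ^ n := by
  induction n with
  | zero => rw [pow_zero, pow_zero, en_one]
  | succ n ih => rw [pow_succ, pow_succ, en_mul, ih]

end

/-! ### the normaliser -/

section

variable {F V K : Type*} [Field F] [Fintype F] [AddCommGroup V] [Module F V] [FiniteDimensional F V] [Group K] [Finite K]
  {ρ : K →* (V ≃ₗ[F] V)} {p f k l : ℕ}

/-- the exponents of the normaliser -/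
theorem exists_theta (hl : l.Prime) {w : K} (hw : orderOf w = l) : ∃ θ : MulAut (Subgroup.zpowers w) →* (ZMod l)ˣ,
    Function.Injective θ ∧ ∀ φ : MulAut (Subgroup.zpowers w), ∃ n : ℕ, (n : ZMod l) = ((θ φ : (ZMod l)ˣ) : ZMod l) ∧
      ((φ ⟨w, Subgroup.mem_zpowers w⟩ : Subgroup.zpowers w) : K) = w ^ n := by
  have := Fact.mk hl
  have hypow : ∀ a b : ℕ, w ^ a = w ^ b ↔ a ≡ b [MOD l] := by
    intro a b; rw [pow_eq_pow_iff_modEq, hw]
  have hex : ∀ φ : MulAut (Subgroup.zpowers w), ∃ k : ℕ, ((φ ⟨w, Subgroup.mem_zpowers w⟩ : Subgroup.zpowers w) : K) = w ^ k := by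
    intro φ
    have hf : IsOfFinOrder w := isOfFinOrder_of_finite w
    obtain ⟨k, hk⟩ := hf.mem_powers_iff_mem_zpowers.2 (φ ⟨w, Subgroup.mem_zpowers w⟩).2
    exact ⟨k, hk.symm⟩
  choose k hk using hex
  have hk' : ∀ φ : MulAut (Subgroup.zpowers w),
      φ ⟨w, Subgroup.mem_zpowers w⟩ = (⟨w, Subgroup.mem_zpowers w⟩ : Subgroup.zpowers w) ^ k φ :=
    fun φ => Subtype.ext (hk φ)
  let θ0 : MulAut (Subgroup.zpowers w) →* ZMod l :=
    { toFun := fun φ => (k φ : ZMod l)
      map_one' := by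
        rw [← Nat.cast_one, ZMod.natCast_eq_natCast_iff, ← hypow, ← hk, pow_one]; rfl
      map_mul' := fun φ ψ => by
        rw [← Nat.cast_mul, ZMod.natCast_eq_natCast_iff, ← hypow, ← hk, MulAut.mul_apply, hk' ψ, map_pow, hk' φ,
          ← pow_mul]
        rfl }
  refine ⟨θ0.toHomUnits, ?_, fun φ => ⟨k φ, rfl, hk φ⟩⟩
  intro φ ψ hφψ
  have h1 : (k φ : ZMod l) = (k ψ : ZMod l) := congrArg (fun u : (ZMod l)ˣ => (u : ZMod l)) hφψ
  rw [ZMod.natCast_eq_natCast_iff, ← hypow, ← hk, ← hk] at h1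
  have h2 := Subtype.ext h1
  ext ⟨x, hx⟩
  obtain ⟨i, rfl⟩ := Subgroup.mem_zpowers_iff.1 hx
  have h3 : (⟨w ^ i, hx⟩ : Subgroup.zpowers w) = (⟨w, Subgroup.mem_zpowers w⟩ : Subgroup.zpowers w) ^ i := rfl
  rw [h3, map_zpow, map_zpow, h2]

/-- **the normaliser of a fixed point free element** -/
theorem nc_dvd_two (hF : Fintype.card F = p ^ f) (hf : 0 < f) (hl : l.Prime) (ho : orderOf (p : ZMod l) = f * k)
    (hk : 0 < k) (hd : finrank F V = 2 * k) {w : K} (hw : orderOf w = l) (hfp : ∀ v, ρ w v = v → v = 0) :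
    nc w ∣ 2 * k := by
  have hnt : Nontrivial V := Module.nontrivial_of_finrank_pos (R := F) (by omega)
  have hy : (en ρ w) ^ l = 1 := by rw [← en_pow, ← hw, pow_orderOf_eq_one, en_one]
  obtain ⟨θ, hθ, hθn⟩ := exists_theta hl hw
  set κ := Subgroup.normalizerMonoidHom (Subgroup.zpowers w) with hκ
  have hR : κ.range.map θ ≤ Theta (en ρ w) hl hy := by
    rintro _ ⟨_, ⟨⟨g, hgN⟩, rfl⟩, rfl⟩
    obtain ⟨n, hn, hn'⟩ := hθn (κ ⟨g, hgN⟩)
    rw [mem_Theta hn]
    have h2 : ((κ ⟨g, hgN⟩ ⟨w, Subgroup.mem_zpowers w⟩ : Subgroup.zpowers w) : K) = g * w * g⁻¹ := rfl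
    rw [h2] at hn'
    have h3 : en ρ g * en ρ w = en ρ (w ^ n) * en ρ g := by
      rw [← hn', ← en_mul, ← en_mul]
      congr 1; group
    rw [en_pow] at h3
    have h4 := semiconj_aeval h3 (minpoly F (en ρ w))
    rw [minpoly.aeval, mul_zero] at h4
    have h6 := congrArg (fun z => z * en ρ g⁻¹) h4.symm
    simp only [zero_mul] at h6
    rwa [mul_assoc, ← en_mul, mul_inv_cancel, en_one, mul_one] at h6
  have h1 : nc w ∣ Nat.card (Theta (en ρ w) hl hy) := by
    have h2 := Subgroup.card_dvd_of_le hR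
    rwa [Subgroup.card_map_of_injective hθ] at h2
  have h2 := dvd_card_Theta (y := en ρ w) (hl := hl) (hy := hy) hF hf ho hk
  have h3 := card_Theta_le (y := en ρ w) (hl := hl) (hy := hy) hfp
  rw [hd] at h3
  have h4 : 0 < Nat.card (Theta (en ρ w) hl hy) := Nat.card_pos
  obtain ⟨c, hc⟩ := h2
  have h5 : c = 1 ∨ c = 2 := by
    have h6 : c ≤ 2 := by
      by_contra hcon
      have : k * 3 ≤ k * c := Nat.mul_le_mul_left k (by omega)
      omega
    have h7 : c ≠ 0 := by rintro rfl; omega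
    omega
  rcases h5 with rfl | rfl
  · rw [hc, mul_one] at h1
    exact h1.mul_left 2
  · rw [hc, mul_comm] at h1
    exact h1

end

end Cfsg.Agent.H117.Rd
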