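import Cfsg.Agent.H117.Rd.Pz

/-!
# S3691, F-D+2 (helper117): the trivial intersection property and the characteristic `{r, s}'`-subgroups
-/

set_option autoImplicit false
set_option linter.unusedSectionVars false

namespace Cfsg.Agent.H117.Rd

open Module QuadraticMap Cfsg.Agent.LieClassical.OrthCore Cfsg.Agent.LieClassical.OrthTrans Cfsg.Agent.H955
open Cfsg.Agent.H997.Rg (nc card_nc)

section

variable {F V K : Type*} [Field F] [AddCommGroup V] [Module F V] [Group K] [Finite K]
  {ρ : K →* (V ≃ₗ[F] V)} {Q : QuadraticForm F V} {m : ℕ}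

/-- the stabiliser of a chain, trivial on the factors -/
def Ch (ρ : K →* (V ≃ₗ[F] V)) (C D : Submodule F V) (hDC : D ≤ C) : Subgroup K :=
  let M : Submonoid K :=
    { carrier := {x | (∀ v, ρ x v - v ∈ C) ∧ (∀ c ∈ C, ρ x c - c ∈ D) ∧ (∀ d ∈ D, ρ x d = d)}
      one_mem' := by
        have h1 : ∀ v : V, ρ (1 : K) v = v := fun v => by rw [map_one]; rfl
        refine ⟨fun v => ?_, fun c _ => ?_, fun d _ => h1 d⟩
        · rw [h1, sub_self]; exact C.zero_mem
        · rw [h1, sub_self]; exact D.zero_mem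
      mul_mem' := by
        rintro x y ⟨hx1, hx2, hx3⟩ ⟨hy1, hy2, hy3⟩
        refine ⟨fun v => ?_, fun c hc => ?_, fun d hd => ?_⟩
        · have h1 : ρ (x * y) v - v = (ρ x (ρ y v - v) - (ρ y v - v)) + (ρ y v - v) + (ρ x v - v) := by
            rw [rho_mul, map_sub]; abel
          rw [h1]
          exact C.add_mem (C.add_mem (hDC (hx2 _ (hy1 v))) (hy1 v)) (hx1 v)
        · have h1 : ρ (x * y) c - c = ρ x (ρ y c - c) + (ρ x c - c) := by
            rw [rho_mul, map_sub]; abel
          rw [h1, hx3 _ (hy2 c hc)]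
          exact D.add_mem (hy2 c hc) (hx2 c hc)
        · rw [rho_mul, hy3 d hd, hx3 d hd] }
  { M with
    inv_mem' := by
      intro x hx
      obtain ⟨n, hn⟩ := (isOfFinOrder_of_finite x).mem_powers_iff_mem_zpowers.2 (Subgroup.inv_mem _ (Subgroup.mem_zpowers x))
      have hn' : x ^ n = x⁻¹ := hn
      have h1 : x ^ n ∈ M := M.pow_mem hx n
      rw [hn'] at h1
      exact h1 }

theorem mem_Ch {C D : Submodule F V} {hDC : D ≤ C} {x : K} : x ∈ Ch ρ C D hDC ↔
    (∀ v, ρ x v - v ∈ C) ∧ (∀ c ∈ C, ρ x c - c ∈ D) ∧ (∀ d ∈ D, ρ x d = d) := Iff.rfl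

theorem Ch_pgroup [Nontrivial V] {p : ℕ} (hp : p.Prime) [CharP F p] (hinj : Function.Injective ρ) {C D : Submodule F V}
    {hDC : D ≤ C} : IsPGroup p (Ch ρ C D hDC) := by
  rintro ⟨x, hx⟩
  rw [mem_Ch] at hx
  obtain ⟨h1, h2, h3⟩ := hx
  refine ⟨2, Subtype.ext ?_⟩
  change x ^ p ^ 2 = 1
  have := Fact.mk hp
  have hch : CharP (Module.End F V) p := charP_of_injective_algebraMap (algebraMap F (Module.End F V)).injective p
  set N : Module.End F V := en ρ x - 1 with hN
  have hN3 : N ^ 3 = 0 := by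
    ext v
    have e1 : N v = ρ x v - v := rfl
    have e2 : (N ^ 3) v = N (N (N v)) := by
      rw [pow_succ, pow_succ, pow_one]; rfl
    rw [e2]
    have e3 : ∀ w, N w = ρ x w - w := fun w => rfl
    have e4 : N (N (N v)) = 0 := by
      rw [e3 (N (N v)), e3 (N v), e3 v, h3 _ (h2 _ (h1 v)), sub_self]
    rw [e4]; rfl
  have hE : en ρ x = N + 1 := by rw [hN, sub_add_cancel]
  have h4 : (en ρ x) ^ p ^ 2 = 1 := by
    rw [hE, add_pow_char_pow_of_commute p 2 (Commute.one_right N), one_pow]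
    have h5 : 3 ≤ p ^ 2 := by
      have := hp.two_le
      nlinarith
    have h6 : N ^ p ^ 2 = 0 := by
      obtain ⟨c, hc⟩ := Nat.exists_eq_add_of_le h5
      rw [hc, pow_add, hN3, zero_mul]
    rw [h6, zero_add]
  apply hinj
  ext v
  have h5 : en ρ (x ^ p ^ 2) = 1 := by rw [en_pow, h4]
  have h6 := LinearMap.congr_fun h5 v
  rw [map_one]
  exact h6

end

section

variable {F V K : Type*} [Field F] [Fintype F] [AddCommGroup V] [Module F V] [FiniteDimensional F V] [Group K] [Finite K]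
  {ρ : K →* (V ≃ₗ[F] V)} {Q : QuadraticForm F V} {p f m r s l k : ℕ}

theorem Sit.nontrivial (h : Sit p f m Q ρ) : Nontrivial V :=
  Module.nontrivial_of_finrank_pos (R := F) (by rw [h.dim]; have := h.fr.five; omega)

theorem Sit.le_Ch (h : Sit p f m Q ρ) {W W' : Submodule F V} (hW : TS Q m W) (hW' : TS Q m W')
    (hC : finrank F (W ⊔ W' : Submodule F V) ≤ m + 1) {P : Subgroup K} (hP : P ≤ CW ρ W) :
    P ≤ Ch ρ (W ⊔ W') (W ⊓ W') (inf_le_left.trans le_sup_left) := by
  intro a ha
  have haW := hP ha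
  refine mem_Ch.2 ⟨fun v => Submodule.mem_sup_left (CW_sub h.iso hW haW v), fun c hc => ?_, fun d hd => haW d hd.1⟩
  have h1 : ρ a c - c ∈ perp Q (W ⊔ W') := by
    rw [mem_perp']
    intro c' hc'
    exact CW_small h.iso hW haW le_sup_left hC hc hc'
  constructor
  · rw [← hW.perp_eq]
    exact perp_anti le_sup_left h1
  · rw [← hW'.perp_eq]
    exact perp_anti le_sup_right h1

/-- **trivial intersection** -/
theorem Sit.ti (h : Sit p f m Q ρ) (hr : Pr p f m r m) {y y' : K} (hy : orderOf y = r) (hy' : orderOf y' = r)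
    {P P' N : Subgroup K} (hP : IsPGroup p P) (hP' : IsPGroup p P') (hyP : y ∈ Subgroup.normalizer (P : Set K))
    (hyP' : y' ∈ Subgroup.normalizer (P' : Set K)) (hPN : P ≤ N) (hPN' : P' ≤ N)
    (hmax : ∀ R : Subgroup K, R ≤ N → IsPGroup p R → P ≤ R → R = P)
    (hmax' : ∀ R : Subgroup K, R ≤ N → IsPGroup p R → P' ≤ R → R = P')
    {g : K} (hg : g ∈ P) (hg' : g ∈ P') (hg1 : g ≠ 1) : P = P' := by
  have hPb : P ≠ ⊥ := by rintro rfl; exact hg1 (Subgroup.mem_bot.1 hg)
  have hPb' : P' ≠ ⊥ := by rintro rfl; exact hg1 (Subgroup.mem_bot.1 hg')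
  have hW := h.ts hr hy hP hPb hyP
  have hW' := h.ts hr hy' hP' hPb' hyP'
  set W := Fx ρ P with hWd
  set W' := Fx ρ P' with hWd'
  have hC : finrank F (W ⊔ W' : Submodule F V) ≤ m + 1 := by
    refine h.fix_le hg1 fun v hv => ?_
    obtain ⟨w, hw, w', hw', rfl⟩ := Submodule.mem_sup.1 hv
    rw [map_add, hw g hg, hw' g hg']
  have h1 : P ≤ Ch ρ (W ⊔ W') (W ⊓ W') (inf_le_left.trans le_sup_left) := h.le_Ch hW hW' hC (le_CW P)
  have h2 : P' ≤ Ch ρ (W ⊔ W') (W ⊓ W') (inf_le_left.trans le_sup_left) := by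
    intro a ha
    have h3 := h.le_Ch hW' hW (by rw [sup_comm]; exact hC) (le_CW P') ha
    rw [mem_Ch] at h3 ⊢
    rw [sup_comm W' W, inf_comm W' W] at h3
    exact h3
  have := h.charP
  have := h.nontrivial
  have h3 : IsPGroup p (P ⊔ P' : Subgroup K) := (Ch_pgroup h.fr.prime h.inj).to_le (sup_le h1 h2)
  rw [← hmax (P ⊔ P') (sup_le hPN hPN') h3 le_sup_left]
  exact hmax' (P ⊔ P') (sup_le hPN hPN') h3 le_sup_right

/-- **the characteristic `{r, s}'`-subgroups** -/
theorem Sit.nzero (h : Sit p f m Q ρ) (hr : Pr p f m r m) (hs : Pr p f m s (m - 1)) (hrK : r ∣ Nat.card K)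
    (hsK : s ∣ Nat.card K) (N : Subgroup K) [hN : N.Characteristic] (hrN : ¬ r ∣ Nat.card N) (hsN : ¬ s ∣ Nat.card N) :
    ¬ p ∣ Nat.card N ∨ (Odd m ∧ (Nat.card N).factorization p = f * m ∧ (p ^ (f * (2 * m)) ≤ Nat.card N ∨
      ∃ P : Subgroup K, P.Characteristic ∧ P ≠ ⊥ ∧ IsPGroup p P)) := by
  by_cases hpN : p ∣ Nat.card N
  swap
  · exact Or.inl hpN
  right
  have hpF := Fact.mk h.fr.prime
  have hrF := Fact.mk hr.prime
  have hsF := Fact.mk hs.prime
  obtain ⟨P0⟩ : Nonempty (Sylow p N) := inferInstance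
  -- Frattini for all Sylow subgroups
  have hfrat : ∀ (P0 : Sylow p N) (l : ℕ), l.Prime → l ∣ Nat.card K → ¬ l ∣ Nat.card N →
      ∃ x ∈ Subgroup.normalizer (((P0 : Subgroup N).map N.subtype : Subgroup K) : Set K), orderOf x = l := by
    intro P0 l hl hlK hlN
    have h1 := P0.normalizer_sup_eq_top
    set L := Subgroup.normalizer (((P0 : Subgroup N).map N.subtype : Subgroup K) : Set K) with hL
    have h2 : N.relIndex (L ⊔ N) = N.relIndex L := Subgroup.relIndex_sup_right L N
    rw [h1, Subgroup.relIndex_top_right] at h2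
    have h3 : Nat.card N * N.index = Nat.card K := N.card_mul_index
    rw [← h3, hl.dvd_mul] at hlK
    have h4 : l ∣ Nat.card L := by
      have h5 := hlK.resolve_left hlN
      rw [h2] at h5
      exact h5.trans (Subgroup.relIndex_dvd_card N L)
    have := Fact.mk hl
    obtain ⟨x, hx⟩ := exists_prime_orderOf_dvd_card' l h4
    exact ⟨x, x.2, by rw [Subgroup.orderOf_coe]; exact hx⟩
  set P := (P0 : Subgroup N).map N.subtype with hP
  have hPp : IsPGroup p P := P0.2.map _
  have hcardP : Nat.card P = p ^ (Nat.card N).factorization p := by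
    rw [hP, Subgroup.card_map_of_injective N.subtype_injective]
    exact P0.card_eq_multiplicity
  have hpos : 0 < (Nat.card N).factorization p := h.fr.prime.factorization_pos_of_dvd Nat.card_pos.ne' hpN
  have hP1 : P ≠ ⊥ := by
    intro h1
    rw [h1, Subgroup.card_bot] at hcardP
    have := Nat.one_lt_pow hpos.ne' h.fr.prime.one_lt
    omega
  obtain ⟨y, hyP, hy⟩ := hfrat P0 r hr.prime hrK hrN
  obtain ⟨z, hzP, hz⟩ := hfrat P0 s hs.prime hsK hsN
  have hodd : Odd m := by
    by_contra hne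
    rw [Nat.not_odd_iff_even] at hne
    exact h.even_false hr hs hne hPp hP1 hy hz hyP hzP
  have hcP := h.card_odd hr hodd hy hPp hP1 hyP
  have hval : (Nat.card N).factorization p = f * m := by
    rw [hcardP] at hcP
    exact Nat.pow_right_injective h.fr.prime.two_le hcP
  refine ⟨hodd, hval, ?_⟩
  by_cases hn : (P0 : Subgroup N).Normal
  · right
    have h1 := P0.characteristic_of_normal hn
    exact ⟨P, Subgroup.characteristic_of_characteristic_of_characteristic, hP1, hPp⟩
  · left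
    -- another Sylow subgroup
    obtain ⟨P0', hne⟩ : ∃ P0' : Sylow p N, P0' ≠ P0 := by
      by_contra hcon
      push Not at hcon
      apply hn
      have hsub : Subsingleton (Sylow p N) := ⟨fun a b => by rw [hcon a, hcon b]⟩
      exact P0.normal_of_subsingleton
    set P' := (P0' : Subgroup N).map N.subtype with hP'
    have hcardP' : Nat.card P' = p ^ (f * m) := by
      rw [hP', Subgroup.card_map_of_injective N.subtype_injective, ← hval]
      exact P0'.card_eq_multiplicity
    obtain ⟨y', hyP', hy'⟩ := hfrat P0' r hr.prime hrK hrN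
    have hmax : ∀ (P0 : Sylow p N) (R : Subgroup K), R ≤ N → IsPGroup p R → (P0 : Subgroup N).map N.subtype ≤ R →
        R = (P0 : Subgroup N).map N.subtype := by
      intro P0 R hRN hR hle
      have h1 : IsPGroup p (R.subgroupOf N) := hR.comap_of_injective _ N.subtype_injective
      have h2 : (P0 : Subgroup N) ≤ R.subgroupOf N := by
        intro x hx
        exact hle ⟨x, hx, rfl⟩
      have h3 := P0.3 h1 h2
      rw [← h3, Subgroup.subgroupOf_map_subtype, inf_eq_left.2 hRN]
    have hdis : ∀ g, g ∈ P → g ∈ P' → g = 1 := by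
      intro g hg hg'
      by_contra hg1
      have h1 := h.ti hr hy hy' hPp (P0'.2.map _) hyP hyP' (Subgroup.map_subtype_le _) (Subgroup.map_subtype_le _)
        (hmax P0) (hmax P0') hg hg' hg1
      apply hne
      apply Sylow.ext
      exact (Subgroup.map_injective N.subtype_injective h1).symm
    have hinj : Function.Injective (fun x : P × P' => (⟨x.1 * x.2, N.mul_mem (Subgroup.map_subtype_le _ x.1.2)
        (Subgroup.map_subtype_le _ x.2.2)⟩ : N)) := by
      rintro ⟨a, b⟩ ⟨c, d⟩ hab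
      have h1 : (a : K) * b = c * d := congrArg Subtype.val hab
      have h2 : (c : K)⁻¹ * a = d * (b : K)⁻¹ := by
        rw [inv_mul_eq_iff_eq_mul, ← mul_assoc, ← h1, mul_inv_cancel_right]
      have h3 : (c : K)⁻¹ * a = 1 := hdis _ (P.mul_mem (P.inv_mem c.2) a.2) (by
        rw [h2]; exact P'.mul_mem d.2 (P'.inv_mem b.2))
      have h4 : (a : K) = c := (inv_mul_eq_one.1 h3).symm
      have h5 : (b : K) = d := by
        rw [h4] at h1
        exact mul_left_cancel h1
      exact Prod.ext (Subtype.ext h4) (Subtype.ext h5)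
    have h1 := Nat.card_le_card_of_injective _ hinj
    rw [Nat.card_prod, hcP, hcardP', ← pow_add] at h1
    rw [show f * (2 * m) = f * m + f * m by ring]
    exact h1

end

end Cfsg.Agent.H117.Rd
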